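import Cfsg.Agent.H58.Mon.Seventy
import Cfsg.Agent.H241.NHMonF

/-!
# Local facts on the Monster for the sieves of the rows M: order 71 (helper979)

* `not_dvd_of_small` : elements of order 17, 23, 29 do not commute with elements of order 17, 23, 29, 41, 47, 59, 71
  (distinct orders)
* `norm_71` : `|C(x)| = 71`, `|N(⟨x⟩)| = 71 · 35`
-/

set_option autoImplicit false
set_option maxRecDepth 100000

namespace Cfsg.Agent.H979.OreM

open Subgroup Cfsg
open Cfsg.Agent.BpSpor.MBigModel Cfsg.Agent.H995.CopEngine Cfsg.Agent.H241.NH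
open Cfsg.Agent.H241.Mon (exists_three fi17 fi23 fi29)

/-- `v` of order 3 with `C(v) ∩ C(y) = ⟨v⟩⟨y⟩` -/
theorem exists_self {r : ℕ} (hr : r ∈ [17, 23, 29]) {y : MG} (hy : orderOf y = r) :
    ∃ v : MG, orderOf v = 3 ∧ Self v y := by
  simp only [List.mem_cons, List.not_mem_nil, or_false] at hr
  rcases hr with rfl | rfl | rfl
  · exact exists_three (r := 17) (by norm_num) (by norm_num) (by rw [card_M]; norm_num) fi17 hy
  · exact exists_three (r := 23) (by norm_num) (by norm_num) (by rw [card_M]; norm_num) fi23 hy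
  · exact exists_three (r := 29) (by norm_num) (by norm_num) (by rw [card_M]; norm_num) fi29 hy

theorem not_dvd_of_small (h3 : Three.{0}) {r : ℕ} (hr : r ∈ [17, 23, 29]) {q : ℕ}
    (hq : q ∈ [17, 23, 29, 41, 47, 59, 71]) (hqr : q ≠ r) {y : MG} (hy : orderOf y = r) :
    ¬ q ∣ Nat.card (centralizer ({y} : Set MG)) := by
  have hfin := finite
  intro hd
  obtain ⟨v, hv, hs⟩ := exists_self hr hy
  simp only [List.mem_cons, List.not_mem_nil, or_false] at hq
  have hqp : q.Prime ∧ 11 ≤ q ∧ ¬ q ^ 2 ∣ 808017424794512875886459904961710757005754368000000000 ∧ ¬ 3 ∣ q - 1 := by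
    rcases hq with rfl | rfl | rfl | rfl | rfl | rfl | rfl <;> norm_num
  have hrp : r.Prime ∧ r ≠ 3 := by
    simp only [List.mem_cons, List.not_mem_nil, or_false] at hr
    rcases hr with rfl | rfl | rfl <;> norm_num
  have hqf := Fact.mk hqp.1
  obtain ⟨x, hx⟩ := exists_prime_orderOf_dvd_card' q hd
  exact no_comm_of_self h3 hrp.1 hrp.2 hy hv hs.1 hs.2 hqp.1 hqp.2.1 hqr (by rw [card_M]; exact hqp.2.2.1)
    hqp.2.2.2 (x : MG) (by rw [Subgroup.orderOf_coe, hx]) (mem_centralizer_singleton_iff.1 x.2)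

/-- **The centralizer and the normalizer of an element of order 71.** -/
theorem norm_71 (hK : AllKnown.{0}) (h3 : Three.{0}) {x : MG} (hx : orderOf x = 71) :
    Nat.card (centralizer ({x} : Set MG)) = 71 ∧
      Nat.card (normalizer ((zpowers x : Subgroup MG) : Set MG)) = 71 * 35 :=
  Cfsg.Agent.H58.Mon71.norm71 hK
    (fun _ hy => not_dvd_of_small h3 (r := 23) (by simp) (by simp) (by norm_num) hy)
    (fun _ hy => not_dvd_of_small h3 (r := 29) (by simp) (by simp) (by norm_num) hy) hx

/-- **`|C(x)| = 71`** -/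
theorem cent_71 (hK : AllKnown.{0}) (h3 : Three.{0}) {x : MG} (hx : orderOf x = 71) :
    Nat.card (centralizer ({x} : Set MG)) = 71 :=
  (norm_71 hK h3 hx).1

end Cfsg.Agent.H979.OreM
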