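import Cfsg.Agent.H979.OreM.Loc41A

/-!
# Local facts on the Monster for the sieves of the rows M: order 41 (helper979)

* `norm_41` : `|C(x)| = 41`, `|N(⟨x⟩)| = 41 · 40`
-/

set_option autoImplicit false
set_option maxRecDepth 100000

namespace Cfsg.Agent.H979.OreM.L41

open Subgroup Cfsg
open Cfsg.Agent.BpSpor.MBigModel Cfsg.Agent.H995.CopEngine Cfsg.Agent.H241.NH
open Cfsg.Agent.H438.Fpr.LemB Cfsg.Agent.H291.SolNorm

instance fact3 : Fact (Nat.Prime 3) := ⟨Nat.prime_three⟩

/-- the order of a Sylow subgroup -/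
theorem sylow_card {C : Type*} [Group C] [Finite C] {p n m : ℕ} [hp : Fact p.Prime] (P : Sylow p C)
    (h : Nat.card C = p ^ n * m) (hm : ¬ p ∣ m) : Nat.card P = p ^ n := by
  obtain ⟨k, hk⟩ := IsPGroup.iff_card.1 P.2
  have h1 : p ^ n ∣ Nat.card P := P.pow_dvd_card_of_pow_dvd_card (by rw [h]; exact dvd_mul_right _ _)
  have h2 : Nat.card P ∣ p ^ n * m := h ▸ card_subgroup_dvd_card (P : Subgroup C)
  rw [hk] at h1 h2 ⊢
  have h3 : Nat.Coprime (p ^ k) m := Nat.Coprime.pow_left k ((Nat.Prime.coprime_iff_not_dvd hp.out).2 hm)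
  exact Nat.dvd_antisymm (h3.dvd_of_dvd_mul_right h2) h1

theorem five_part {x y : MG} (hx : orderOf x = 41) (hxy : x * y = y * x)
    (hodd : ¬ 2 ∣ Nat.card (centralizer ({y} : Set MG))) {k : ℕ} (hk : 5 ^ k ∣ Nat.card (centralizer ({y} : Set MG))) :
    5 ^ k ∣ Nat.card (normalizer ((zpowers x : Subgroup MG) : Set MG)) :=
  (part hx (mem_centralizer_singleton_iff.2 hxy) hodd (m := 9) Nat.prime_five (by norm_num) (by norm_num)
    (by decide +kernel) hk).trans (norm_sub _)

/-- **the 5-part of `|C(x)|` is smaller than the 5-part of `|N(⟨x⟩)|`** -/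
theorem no_five {x : MG} (hx : orderOf x = 41) {b m n : ℕ} (hb : b ≠ 0)
    (hc : Nat.card (centralizer ({x} : Set MG)) = 5 ^ b * m) (hm : ¬ 5 ∣ m) (hb9 : b < 9)
    (hN : Nat.card (normalizer ((zpowers x : Subgroup MG) : Set MG)) = n) (hn : ¬ 5 ^ (b + 1) ∣ n) : False := by
  have hfin := finite
  let P : Sylow 5 (centralizer ({x} : Set MG)) := default
  have hP := sylow_card P hc hm
  set R : Subgroup MG := (P : Subgroup (centralizer ({x} : Set MG))).map (centralizer ({x} : Set MG)).subtype with hR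
  have hRc : Nat.card R = 5 ^ b := by
    rw [hR, card_map_of_injective (centralizer ({x} : Set MG)).subtype_injective]
    exact hP
  have hRle : R ≤ centralizer ({x} : Set MG) := map_subtype_le _
  obtain ⟨y, hy, hyo, hyc⟩ := PGr.grow (p := 5) (P := R) (IsPGroup.of_card hRc) (by
      intro h
      rw [h, card_bot] at hRc
      exact absurd hRc.symm (Nat.one_lt_pow hb (by norm_num)).ne') (by
      rw [hRc, card_M, mul_comm, ← pow_succ]
      exact (pow_dvd_pow 5 (by omega : b + 1 ≤ 9)).trans (by norm_num))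
  have hyx := mem_centralizer_singleton_iff.1 (hRle hy)
  rw [hRc, mul_comm, ← pow_succ] at hyc
  exact hn (hN ▸ five_part hx hyx.symm (odd_five hx hyo hyx.symm) hyc)

theorem chk9 : ∀ d < 10, d ∣ 9 → d % 5 = 9 % 5 → d = 9 := by decide +kernel

/-- an element of the normalizer acting on `⟨x⟩` centralizing a Sylow 3-subgroup of order 9 of `C(x)` -/
theorem not_45 {x : MG} (hx : orderOf x = 41) (hc : Nat.card (centralizer ({x} : Set MG)) = 1845)
    (hN : Nat.card (normalizer ((zpowers x : Subgroup MG) : Set MG)) = 18450) : False := by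
  have hfin := finite
  set C := centralizer ({x} : Set MG) with hC
  set Nx := normalizer ((zpowers x : Subgroup MG) : Set MG) with hNx
  -- an element of order a power of 5 outside `C`
  let F : Sylow 5 Nx := default
  have hF := sylow_card F (n := 2) (m := 738) (by rw [hN]; norm_num) (by norm_num)
  obtain ⟨g, hgF, hgC⟩ : ∃ g ∈ (F : Subgroup Nx), (g : MG) ∉ C := by
    by_contra hcon
    push Not at hcon
    have h1 : Nat.card ((F : Subgroup Nx).map Nx.subtype) ∣ Nat.card C := by
      refine card_dvd_of_le ?_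
      rintro _ ⟨g, hg, rfl⟩
      exact hcon g hg
    rw [card_map_of_injective Nx.subtype_injective, hc] at h1
    have h2 : 5 ^ 2 ∣ 1845 := hF ▸ h1
    norm_num at h2
  have hg25 : (g : MG) ^ 25 = 1 := by
    have h1 : orderOf (⟨g, hgF⟩ : (F : Subgroup Nx)) ∣ 5 ^ 2 := hF ▸ orderOf_dvd_natCard _
    have h2 : (⟨g, hgF⟩ : (F : Subgroup Nx)) ^ 25 = 1 := orderOf_dvd_iff_pow_eq_one.1 (h1.trans (by norm_num))
    have h3 : g ^ 25 = 1 := congrArg Subtype.val h2
    exact congrArg Subtype.val h3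
  obtain ⟨k, hk41, hk⟩ := exists_k hx g.2
  have hk25 := pow_mod_one hx hk hg25
  have hk5 := chkI k hk41 hk25
  have hk1 : k ≠ 1 := ne_one_of hk fun h => hgC (mem_centralizer_singleton_iff.2 h)
  -- the Sylow 3-subgroup
  let P : Sylow 3 C := default
  have hP := sylow_card P (n := 2) (m := 205) (by rw [hc]; norm_num) (by norm_num)
  set R : Subgroup MG := (P : Subgroup C).map C.subtype with hR
  have hRc : Nat.card R = 9 := by
    rw [hR, card_map_of_injective C.subtype_injective]
    exact hP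
  have hRle : R ≤ C := map_subtype_le _
  have hCN : ∀ n ∈ Nx, ∀ c ∈ C, n * c * n⁻¹ ∈ C := by
    intro n hn c hcC
    rw [hC, mem_centralizer_singleton_iff]
    have h1 : n⁻¹ * x * n ∈ zpowers x := by
      have := (mem_normalizer_iff.1 (inv_mem hn) x).1 (mem_zpowers x)
      rwa [inv_inv] at this
    obtain ⟨j, hj⟩ := h1
    have hj' : x ^ j = n⁻¹ * x * n := hj
    have h2 : c * (n⁻¹ * x * n) = (n⁻¹ * x * n) * c := by
      rw [← hj']
      exact ((show Commute c x from mem_centralizer_singleton_iff.1 hcC).zpow_right j).eq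
    calc n * c * n⁻¹ * x = n * (c * (n⁻¹ * x * n)) * n⁻¹ := by group
      _ = n * ((n⁻¹ * x * n) * c) * n⁻¹ := by rw [h2]
      _ = x * (n * c * n⁻¹) := by group
  obtain ⟨c, hcC, hcR⟩ := PGr.frattini hCN P g.2
  set g1 : MG := c * g with hg1
  have hg1k : g1 * x * g1⁻¹ = x ^ k := by
    calc g1 * x * g1⁻¹ = c * (g * x * (g : MG)⁻¹) * c⁻¹ := by rw [hg1]; group
      _ = c * x ^ k * c⁻¹ := by rw [hk]
      _ = x ^ k := by
        rw [((show Commute c x from mem_centralizer_singleton_iff.1 hcC).pow_right k).eq, mul_inv_cancel_right]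
  obtain ⟨a, m, hm5, ho⟩ := Nat.exists_eq_pow_mul_and_not_dvd (orderOf_pos g1).ne' 5 (by norm_num)
  set f : MG := g1 ^ m with hf
  have hfa : f ^ 5 ^ a = 1 := by rw [hf, ← pow_mul, mul_comm, ← ho, pow_orderOf_eq_one]
  have hfk : f * x * f⁻¹ = x ^ k ^ m := conj_pow_k hg1k m
  have hfR : ∀ r ∈ R, f * r * f⁻¹ ∈ R := by
    have h1 : ∀ n : ℕ, ∀ r ∈ R, g1 ^ n * r * (g1 ^ n)⁻¹ ∈ R := by
      intro n
      induction n with
      | zero =>
        intro r hr
        rwa [pow_zero, one_mul, inv_one, mul_one]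
      | succ n ih =>
        intro r hr
        have h2 : g1 ^ (n + 1) * r * (g1 ^ (n + 1))⁻¹ = g1 * (g1 ^ n * r * (g1 ^ n)⁻¹) * g1⁻¹ := by
          rw [pow_succ']
          group
        rw [h2]
        exact hcR _ (ih r hr)
    exact h1 m
  have hgen := gen_of (k := k ^ m) (by
      rw [← pow_mul, mul_comm, pow_mul, Nat.pow_mod, hk5, one_pow, Nat.mod_eq_of_lt (by norm_num : 1 < 41)]) (by
      intro h
      have h1 : k ∈ ([10, 16, 18, 37] : List ℕ) := chkH k hk41 hk5 hk1
      have h2 : k ^ m % 41 = k ^ (m % 5) % 41 := by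
        conv_lhs => rw [← Nat.div_add_mod m 5, pow_add, pow_mul, Nat.mul_mod, Nat.pow_mod, hk5, one_pow]
        rw [Nat.mod_eq_of_lt (show 1 < 41 by norm_num), one_mul, Nat.mod_mod]
      have h3 : ∀ k ∈ ([10, 16, 18, 37] : List ℕ), ∀ j < 5, j ≠ 0 → k ^ j % 41 ≠ 1 := by decide +kernel
      refine h3 k h1 (m % 5) (Nat.mod_lt _ (by norm_num)) (fun h0 => hm5 (Nat.dvd_of_mod_eq_zero h0)) ?_
      rw [← h2]
      exact h)
  -- an element of order 3
  obtain ⟨y, hy, hyo, hyc⟩ := PGr.grow (p := 3) (P := R) (IsPGroup.of_card (n := 2) (by rw [hRc]; norm_num)) (by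
      intro h
      rw [h, card_bot] at hRc
      norm_num at hRc) (by
      rw [hRc, card_M]
      norm_num)
  rw [hRc] at hyc
  have hyx := mem_centralizer_singleton_iff.1 (hRle hy)
  have hodd := odd_three hx hyo hyx.symm
  have hfy : f * y = y * f := by
    refine PGr.comm_of_mod (q := 5) hfa hfR ?_ hy
    intro d hd hmod
    rw [hRc] at hd hmod ⊢
    exact chk9 d (Nat.lt_succ_of_le (Nat.le_of_dvd (by norm_num) hd)) hd hmod
  have h1 := three_part (a := 3) hx hfk hgen (X := centralizer ({y} : Set MG))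
    (mem_centralizer_singleton_iff.2 hyx.symm) (mem_centralizer_singleton_iff.2 hfy) hodd
    (by norm_num at hyc ⊢; exact hyc)
  have h2 := h1.trans (norm_sub (mem_centralizer_singleton_iff.2 hyx.symm))
  rw [hN] at h2
  norm_num at h2

/-- a subgroup of odd order containing `x` and an element acting as an automorphism of order 5 on `⟨x⟩` -/
theorem le_norm {x f : MG} (hx : orderOf x = 41) {k : ℕ} (hf : f * x * f⁻¹ = x ^ k)
    (hgen : ∀ r : ℕ, r < 40 → ∃ a b : ℕ, (r + 1) % 41 = (3 ^ a * k ^ b) % 41) {X : Subgroup MG} (hxX : x ∈ X)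
    (hfX : f ∈ X) (hodd : ¬ 2 ∣ Nat.card X) :
    normalizer ((zpowers (⟨x, hxX⟩ : X) : Subgroup X) : Set X) = ⊤ := by
  have hfin := finite
  apply Subgroup.eq_top_of_card_eq
  refine Nat.dvd_antisymm (card_subgroup_dvd_card _) ?_
  rw [Nat.dvd_iff_prime_pow_dvd_dvd]
  intro q j hq hj
  rcases Nat.eq_zero_or_pos j with rfl | hj0
  · rw [pow_zero]; exact one_dvd _
  have hqX : q ∣ Nat.card X := (dvd_pow_self q hj0.ne').trans hj
  have h1 := Cfsg.Agent.H58.Cop.M.mem_primes hq (hqX.trans (dvd_NM X))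
  have key : ∀ m : ℕ, q ≠ 41 → ¬ q ^ (m + 1) ∣ NM →
      ((List.range (m + 1)).all fun i => Nat.beq i 0 || (q ^ i - 1) % 41 != 0) = true →
      q ^ j ∣ Nat.card (normalizer ((zpowers (⟨x, hxX⟩ : X) : Subgroup X) : Set X)) :=
    fun m h1 h2 h3 => part hx hxX hodd (m := m) hq h1 h2 h3 hj
  simp only [List.mem_cons, List.not_mem_nil, or_false] at h1
  rcases h1 with rfl | rfl | rfl | rfl | rfl | rfl | rfl | rfl | rfl | rfl | rfl | rfl | rfl | rfl | rfl
  · exact absurd hqX hodd
  · exact three_part hx hf hgen hxX hfX hodd hj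
  · exact key 9 (by norm_num) (by norm_num) (by decide +kernel)
  · exact key 6 (by norm_num) (by norm_num) (by decide +kernel)
  · exact key 2 (by norm_num) (by norm_num) (by decide +kernel)
  · exact key 3 (by norm_num) (by norm_num) (by decide +kernel)
  · exact key 1 (by norm_num) (by norm_num) (by decide +kernel)
  · exact key 1 (by norm_num) (by norm_num) (by decide +kernel)
  · exact key 1 (by norm_num) (by norm_num) (by decide +kernel)
  · exact key 1 (by norm_num) (by norm_num) (by decide +kernel)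
  · exact key 1 (by norm_num) (by norm_num) (by decide +kernel)
  · have hj1 : j ≤ 1 := by
      by_contra hcon
      exact sq41 ((pow_dvd_pow 41 (by omega : 2 ≤ j)).trans (hj.trans (dvd_NM X)))
    have hj2 : j = 1 := by omega
    rw [hj2, pow_one]
    have h2 : orderOf (⟨x, hxX⟩ : X) = 41 := by rw [Subgroup.orderOf_mk, hx]
    rw [← h2, ← Nat.card_zpowers]
    exact card_dvd_of_le le_normalizer
  · exact key 1 (by norm_num) (by norm_num) (by decide +kernel)
  · exact key 1 (by norm_num) (by norm_num) (by decide +kernel)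
  · exact key 1 (by norm_num) (by norm_num) (by decide +kernel)

/-- the elements of order 41 of such a subgroup -/
theorem mem_of_norm {x : MG} (hx : orderOf x = 41) {X : Subgroup MG} (hxX : x ∈ X)
    (hN : normalizer ((zpowers (⟨x, hxX⟩ : X) : Subgroup X) : Set X) = ⊤) {u : MG} (huX : u ∈ X) (hu : orderOf u = 41) :
    u ∈ zpowers x := by
  have hfin := finite
  obtain ⟨g, hg⟩ := Gen.conj_of_not_sq (X := X) (x := ⟨x, hxX⟩) (y := ⟨u, huX⟩) p41
    (fun h => sq41 (h.trans (dvd_NM X))) (by rw [Subgroup.orderOf_mk, hx]) (by rw [Subgroup.orderOf_mk, hu])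
  have h1 : g⁻¹ ∈ normalizer ((zpowers (⟨x, hxX⟩ : X) : Subgroup X) : Set X) := by rw [hN]; trivial
  have h2 := (mem_normalizer_iff.1 h1 _).1 hg
  have h3 : g⁻¹ * (g * (⟨u, huX⟩ : X) * g⁻¹) * g⁻¹⁻¹ = ⟨u, huX⟩ := by group
  rw [h3] at h2
  obtain ⟨j, hj⟩ := h2
  exact ⟨j, congrArg Subtype.val hj⟩

/-- **The case `|C(x)| = 41 · 125` is impossible.** -/
theorem not_125 {x : MG} (hx : orderOf x = 41) (hc : Nat.card (centralizer ({x} : Set MG)) = 5125)
    (hN : Nat.card (normalizer ((zpowers x : Subgroup MG) : Set MG)) = 102500) : False := by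
  have hfin := finite
  set C := centralizer ({x} : Set MG) with hC
  set Nx := normalizer ((zpowers x : Subgroup MG) : Set MG) with hNx
  have hCN : C ≤ Nx := by
    intro c hcC
    apply Gen.mem_norm
    rw [mem_centralizer_singleton_iff.1 hcC, mul_inv_cancel_right]
    exact mem_zpowers x
  have hCN' : ∀ n ∈ Nx, ∀ c ∈ C, n * c * n⁻¹ ∈ C := by
    intro n hn c hcC
    rw [hC, mem_centralizer_singleton_iff]
    have h1 : n⁻¹ * x * n ∈ zpowers x := by
      have := (mem_normalizer_iff.1 (inv_mem hn) x).1 (mem_zpowers x)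
      rwa [inv_inv] at this
    obtain ⟨j, hj⟩ := h1
    have hj' : x ^ j = n⁻¹ * x * n := hj
    have h2 : c * (n⁻¹ * x * n) = (n⁻¹ * x * n) * c := by
      rw [← hj']
      exact ((show Commute c x from mem_centralizer_singleton_iff.1 hcC).zpow_right j).eq
    calc n * c * n⁻¹ * x = n * (c * (n⁻¹ * x * n)) * n⁻¹ := by group
      _ = n * ((n⁻¹ * x * n) * c) * n⁻¹ := by rw [h2]
      _ = x * (n * c * n⁻¹) := by group
  have hrel : C.relIndex Nx = 20 := by
    have h1 := (C.subgroupOf Nx).card_mul_index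
    rw [Nat.card_congr (subgroupOfEquivOfLe hCN).toEquiv, hc, hN] at h1
    have h2 : (C.subgroupOf Nx).index = C.relIndex Nx := rfl
    rw [h2] at h1
    omega
  -- the Sylow 5-subgroup of `N(⟨x⟩)`
  let F0 : Sylow 5 Nx := default
  have hF0 := sylow_card F0 (n := 4) (m := 164) (by rw [hN]; norm_num) (by norm_num)
  set F : Subgroup MG := (F0 : Subgroup Nx).map Nx.subtype with hFdef
  have hF : Nat.card F = 5 ^ 4 := by
    rw [hFdef, card_map_of_injective Nx.subtype_injective]
    exact hF0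
  have hFN : F ≤ Nx := map_subtype_le _
  have hFp : IsPGroup 5 F := IsPGroup.of_card hF
  obtain ⟨S, hFS⟩ := hFp.exists_le_sylow
  have hSc : Nat.card (S : Subgroup MG) = 5 ^ 9 :=
    sylow_card S (m := 413704921494790592453867471340395907586946236416) (by rw [card_M]; norm_num) (by norm_num)
  -- a 5-subgroup of `N(⟨x⟩)` containing `F` is `F`
  have hmax : ∀ k : ℕ, 5 ^ k ∣ Nat.card Nx → k ≤ 4 := by
    intro k hk
    by_contra hcon
    have h1 : 5 ^ 5 ∣ 102500 := hN ▸ (pow_dvd_pow 5 (by omega : 5 ≤ k)).trans hk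
    norm_num at h1
  have hFmax : ∀ T : Subgroup MG, IsPGroup 5 T → F ≤ T → (∀ k : ℕ, 5 ^ k ∣ Nat.card T → 5 ^ k ∣ Nat.card Nx) → T = F := by
    intro T hT hFT hk
    obtain ⟨k, hk'⟩ := IsPGroup.iff_card.1 hT
    symm
    refine eq_of_le_of_card_ge hFT ?_
    rw [hk', hF]
    exact Nat.pow_le_pow_right (by norm_num) (hmax k (hk k (by rw [hk'])))
  -- `F ∩ C(x)`
  set P : Subgroup MG := F ⊓ C with hP
  have hPp : IsPGroup 5 P := hFp.to_le inf_le_left
  obtain ⟨j, hj⟩ := IsPGroup.iff_card.1 hPp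
  have hcardP : Nat.card P * C.relIndex F = 5 ^ 4 := by
    have h1 := (C.subgroupOf F).card_mul_index
    have h2 : Nat.card (C.subgroupOf F) = Nat.card P := by
      rw [← card_map_of_injective F.subtype_injective, subgroupOf_map_subtype, inf_comm]
    rw [h2, hF] at h1
    exact h1
  have hle20 : C.relIndex F ≤ 20 := by
    rw [← hrel]
    exact relIndex_le_of_le_right hFN (by rw [hrel]; norm_num)
  have hj3 : 3 ≤ j := by
    by_contra hcon
    have h1 : Nat.card P ≤ 5 ^ 2 := by
      rw [hj]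
      exact Nat.pow_le_pow_right (by norm_num) (by omega)
    have h2 : Nat.card P * C.relIndex F ≤ 5 ^ 2 * 20 := Nat.mul_le_mul h1 hle20
    rw [hcardP] at h2
    norm_num at h2
  have hP125 : 125 ≤ Nat.card P := by
    rw [hj]
    calc 125 = 5 ^ 3 := by norm_num
      _ ≤ 5 ^ j := Nat.pow_le_pow_right (by norm_num) hj3
  have hP1 : P ≠ ⊥ := by
    intro h
    rw [h, card_bot] at hP125
    norm_num at hP125
  obtain ⟨y0, hy0, hy0o, hy0c⟩ := PGr.exists_central (p := 5) hFp (inf_le_left : P ≤ F) hP1 (by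
    rintro s hs a ⟨ha1, ha2⟩
    exact ⟨F.mul_mem (F.mul_mem hs ha1) (F.inv_mem hs), hCN' s (hFN hs) a ha2⟩)
  have hy0x : y0 * x = x * y0 := mem_centralizer_singleton_iff.1 hy0.2
  -- `C_S(y0) = F`
  have hSF : (S : Subgroup MG) ⊓ centralizer ({y0} : Set MG) = F := by
    refine hFmax _ (S.2.to_le inf_le_left) (le_inf hFS fun s hs => ?_) fun k hk => ?_
    · exact mem_centralizer_singleton_iff.2 (hy0c s hs)
    · exact five_part hx hy0x.symm (odd_five hx hy0o hy0x.symm) (hk.trans (card_dvd_of_le inf_le_right))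
  -- the centre of `S`
  obtain ⟨z, hzS, hzo, hzc⟩ := PGr.exists_central (p := 5) S.2 (le_refl (S : Subgroup MG)) (by
      intro h
      rw [h, card_bot] at hSc
      norm_num at hSc) (fun s hs a ha => (S : Subgroup MG).mul_mem ((S : Subgroup MG).mul_mem hs ha) ((S : Subgroup MG).inv_mem hs))
  have hzF : z ∈ F := by
    rw [← hSF]
    exact ⟨hzS, mem_centralizer_singleton_iff.2 (hzc y0 (hFS hy0.1)).symm⟩
  have hSz : (S : Subgroup MG) ≤ centralizer ({z} : Set MG) := fun s hs => mem_centralizer_singleton_iff.2 (hzc s hs)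
  have hzx : z * x ≠ x * z := by
    intro h
    have h1 : 5 ^ 9 ∣ Nat.card (centralizer ({z} : Set MG)) := hSc ▸ card_dvd_of_le hSz
    have h2 := hmax 9 (five_part hx h.symm (odd_five hx hzo h.symm) h1)
    norm_num at h2
  obtain ⟨k, hk41, hk⟩ := exists_k hx (hFN hzF)
  have hk5 := pow_mod_one hx hk (show z ^ 5 = 1 by rw [← hzo, pow_orderOf_eq_one])
  have hk1 : k ≠ 1 := ne_one_of hk hzx
  have hgen := gen_of hk5 (by rwa [Nat.mod_eq_of_lt hk41])
  -- an element of `N_S(F)` outside `F`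
  obtain ⟨g, hgS, hgN, hgF⟩ : ∃ g ∈ (S : Subgroup MG), g ∈ normalizer (F : Set MG) ∧ g ∉ F := by
    set F' : Subgroup (S : Subgroup MG) := F.subgroupOf S with hF'
    have hF'c : Nat.card F' = 5 ^ 4 := by
      rw [hF', Nat.card_congr (subgroupOfEquivOfLe hFS).toEquiv, hF]
    have h1 : 5 ^ (4 + 1) ∣ Nat.card (normalizer (F' : Set (S : Subgroup MG))) :=
      Sylow.prime_pow_dvd_card_normalizer (by rw [hSc]; norm_num) hF'c
    by_contra hcon
    push Not at hcon
    have h2 : normalizer (F' : Set (S : Subgroup MG)) ≤ F' := by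
      intro s hs
      refine hcon s s.2 ?_
      rw [mem_normalizer_iff]
      intro a
      constructor
      · intro ha
        have h3 := (mem_normalizer_iff.1 hs ⟨a, hFS ha⟩).1 ha
        exact h3
      · intro ha
        have h4 : a ∈ (S : Subgroup MG) := by
          have h5 := mul_mem (mul_mem (inv_mem s.2) (hFS ha)) s.2
          have h6 : (s : MG)⁻¹ * (s * a * (s : MG)⁻¹) * s = a := by group
          rwa [h6] at h5
        exact (mem_normalizer_iff.1 hs ⟨a, h4⟩).2 ha
    have h3 := h1.trans (card_dvd_of_le h2)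
    rw [hF'c] at h3
    norm_num at h3
  -- the intersection of `P` and its conjugate
  set Q : Subgroup MG := P.map (MulAut.conj g).toMonoidHom with hQ
  have hQc : Nat.card Q = Nat.card P := card_map_of_injective (MulAut.conj g).injective
  have hQF : Q ≤ F := by
    rintro _ ⟨a, ha, rfl⟩
    exact PGr.conj_mem hgN ha.1
  have hint : 5 ≤ Nat.card ↥(Q ⊓ P) := by
    have h1 := (P.subgroupOf Q).card_mul_index
    have h2 : Nat.card (P.subgroupOf Q) = Nat.card ↥(Q ⊓ P) := by
      rw [← card_map_of_injective Q.subtype_injective, subgroupOf_map_subtype, inf_comm]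
    have h3 : (P.subgroupOf Q).index = P.relIndex Q := rfl
    rw [h2, h3, hQc] at h1
    have h4 : P.relIndex F * Nat.card P = 5 ^ 4 := by
      have h5 := (P.subgroupOf F).card_mul_index
      rw [Nat.card_congr (subgroupOfEquivOfLe (inf_le_left : P ≤ F)).toEquiv, hF] at h5
      rw [mul_comm]
      exact h5
    have h5 : P.relIndex F ≤ 5 := by
      by_contra hcon
      have h6 : 6 * 125 ≤ P.relIndex F * Nat.card P := Nat.mul_le_mul (by omega) hP125
      rw [h4] at h6
      norm_num at h6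
    have h6 : P.relIndex Q ≤ 5 := by
      refine le_trans (relIndex_le_of_le_right hQF ?_) h5
      intro h0
      rw [h0, zero_mul] at h4
      norm_num at h4
    by_contra hcon
    have h7 : Nat.card ↥(Q ⊓ P) * P.relIndex Q ≤ 4 * 5 := Nat.mul_le_mul (by omega) h6
    omega
  have hQPp : IsPGroup 5 ↥(Q ⊓ P) := hPp.to_le inf_le_right
  obtain ⟨i, hi⟩ := IsPGroup.iff_card.1 hQPp
  have h5d : 5 ∣ Nat.card ↥(Q ⊓ P) := by
    rw [hi] at hint ⊢
    refine dvd_pow_self 5 fun h0 => ?_
    rw [h0] at hint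
    norm_num at hint
  obtain ⟨y1, hy1⟩ := exists_prime_orderOf_dvd_card' 5 h5d
  obtain ⟨y, hydef⟩ : ∃ y : MG, y = y1 := ⟨_, rfl⟩
  have hyo : orderOf y = 5 := by rw [hydef, Subgroup.orderOf_coe, hy1]
  have hyP : y ∈ P := by rw [hydef]; exact y1.2.2
  have hyQ : y ∈ Q := by rw [hydef]; exact y1.2.1
  have hyx : y * x = x * y := mem_centralizer_singleton_iff.1 hyP.2
  obtain ⟨w, hw, hwy⟩ := hyQ
  have hwy' : g * w * g⁻¹ = y := hwy
  have hwx : w * x = x * w := mem_centralizer_singleton_iff.1 hw.2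
  have huy : (g * x * g⁻¹) * y = y * (g * x * g⁻¹) := by
    rw [← hwy']
    calc g * x * g⁻¹ * (g * w * g⁻¹) = g * (x * w) * g⁻¹ := by group
      _ = g * (w * x) * g⁻¹ := by rw [hwx]
      _ = g * w * g⁻¹ * (g * x * g⁻¹) := by group
  -- `⟨x⟩` is normal in `C(y)`
  have hodd := odd_five hx hyo hyx.symm
  have htop := le_norm hx hk hgen (X := centralizer ({y} : Set MG)) (mem_centralizer_singleton_iff.2 hyx.symm)
    (mem_centralizer_singleton_iff.2 (hzc y (hFS hyP.1)).symm) hodd
  have hu := mem_of_norm hx _ htop (u := g * x * g⁻¹) (mem_centralizer_singleton_iff.2 huy) (by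
    have := MulEquiv.orderOf_eq (MulAut.conj g) x
    rw [MulAut.conj_apply] at this
    rw [this, hx])
  have hgx : g ∈ Nx := Gen.mem_norm hu
  -- `S ∩ N(⟨x⟩) = F`
  apply hgF
  rw [← hFmax ((S : Subgroup MG) ⊓ Nx) (S.2.to_le inf_le_left) (le_inf hFS hFN)
    (fun k hk => hk.trans (card_dvd_of_le inf_le_right))]
  exact ⟨hgS, hgx⟩

end Cfsg.Agent.H979.OreM.L41

namespace Cfsg.Agent.H979.OreM

open Subgroup Cfsg
open Cfsg.Agent.BpSpor.MBigModel Cfsg.Agent.H995.CopEngine Cfsg.Agent.H241.NH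

/-- **The centralizer and the normalizer of an element of order 41.** -/
theorem norm_41 (hK : AllKnown.{0}) (h3 : Three.{0}) {x : MG} (hx : orderOf x = 41) :
    Nat.card (centralizer ({x} : Set MG)) = 41 ∧
      Nat.card (normalizer ((zpowers x : Subgroup MG) : Set MG)) = 41 * 40 := by
  obtain ⟨s, e, hc, hN, h | h | h | h | h⟩ := L41.cases hK h3 hx
  · obtain ⟨rfl, rfl⟩ := h
    exact ⟨by rw [hc], by rw [hN]⟩
  · obtain ⟨rfl, rfl⟩ := h
    exact (L41.no_five hx (b := 1) (m := 41) (n := 1640) (by norm_num) (by rw [hc]; norm_num) (by norm_num) (by norm_num)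
      (by rw [hN]) (by norm_num)).elim
  · obtain ⟨rfl, rfl⟩ := h
    exact (L41.not_125 hx (by rw [hc]) (by rw [hN])).elim
  · obtain ⟨rfl, rfl⟩ := h
    exact (L41.not_45 hx (by rw [hc]) (by rw [hN])).elim
  · obtain ⟨rfl, rfl⟩ := h
    exact (L41.no_five hx (b := 2) (m := 369) (n := 18450) (by norm_num) (by rw [hc]; norm_num) (by norm_num)
      (by norm_num) (by rw [hN]) (by norm_num)).elim

/-- **`|C(x)| = 41`** -/
theorem cent_41 (hK : AllKnown.{0}) (h3 : Three.{0}) {x : MG} (hx : orderOf x = 41) :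
    Nat.card (centralizer ({x} : Set MG)) = 41 :=
  (norm_41 hK h3 hx).1

end Cfsg.Agent.H979.OreM
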