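import Mathlib

/-!
# An element of order 41 and a normalizing element acting on a small 3-group (helper979)

* `Lin.eq_one` : `T ^ 41 = 1`, `F T F⁻¹ = T ^ k`, where `3` and `k` generate `(ℤ/41)ˣ`, on a space of dimension less than 40
  over `𝔽₃`: `T = 1`
* `Lin.comm_of_small` : the same in a finite group
-/

set_option autoImplicit false

namespace Cfsg.Agent.H979.OreM.Lin

open Polynomial

section lin

variable {V : Type*} [AddCommGroup V] [Module (ZMod 3) V]

theorem aeval_cube (m : (ZMod 3)[X]) (T : Module.End (ZMod 3) V) (h : aeval T m = 0) : aeval (T ^ 3) m = 0 := by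
  rw [← expand_aeval, ZMod.expand_card, map_pow, h, zero_pow (by norm_num)]

theorem conj_pow' {T F F' : Module.End (ZMod 3) V} (hF' : F' * F = 1) (n : ℕ) :
    (F * T * F') ^ n = F * T ^ n * F' ∨ n = 0 := by
  induction n with
  | zero => exact Or.inr rfl
  | succ n ih =>
    left
    rcases ih with h | rfl
    · rw [pow_succ, h, pow_succ]
      calc F * T ^ n * F' * (F * T * F') = F * T ^ n * (F' * F) * T * F' := by simp only [mul_assoc]
        _ = F * (T ^ n * T) * F' := by rw [hF', mul_one, mul_assoc F]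
    · rw [zero_add, pow_one, pow_one]

theorem aeval_conj {T F F' : Module.End (ZMod 3) V} (hF : F * F' = 1) (hF' : F' * F = 1) (m : (ZMod 3)[X]) :
    aeval (F * T * F') m = F * aeval T m * F' := by
  induction m using Polynomial.induction_on' with
  | add p q hp hq => rw [map_add, map_add, hp, hq, mul_add, add_mul]
  | monomial n a =>
    rw [aeval_monomial, aeval_monomial]
    have h1 : (F * T * F') ^ n = F * T ^ n * F' := by
      rcases conj_pow' (T := T) hF' n with h | rfl
      · exact h
      · rw [pow_zero, pow_zero, mul_one, hF]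
    rw [h1, ← mul_assoc, ← mul_assoc, ← mul_assoc]
    congr 2
    exact Algebra.commutes a F

variable {T F F' : Module.End (ZMod 3) V} {k : ℕ}

theorem key (hF : F * F' = 1) (hF' : F' * F = 1) (hk : F * T * F' = T ^ k) (a b : ℕ) :
    aeval (T ^ (3 ^ a * k ^ b)) (minpoly (ZMod 3) T) = 0 := by
  induction a with
  | zero =>
    rw [pow_zero, one_mul]
    induction b with
    | zero => rw [pow_zero, pow_one, minpoly.aeval]
    | succ b ih =>
      have h1 : T ^ (k ^ (b + 1)) = F * T ^ (k ^ b) * F' := by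
        rw [pow_succ, mul_comm, pow_mul, ← hk]
        rcases conj_pow' (T := T) hF' (k ^ b) with h | h
        · exact h
        · rw [h, pow_zero, pow_zero, mul_one, hF]
      rw [h1, aeval_conj hF hF', ih, mul_zero, zero_mul]
  | succ a ih =>
    have h1 : T ^ (3 ^ (a + 1) * k ^ b) = (T ^ (3 ^ a * k ^ b)) ^ 3 := by
      rw [← pow_mul]
      congr 1
      ring
    rw [h1]
    exact aeval_cube _ _ ih

/-- **The linear algebra.** -/
theorem eq_one [Module.Finite (ZMod 3) V] (hF : F * F' = 1) (hF' : F' * F = 1) (hk : F * T * F' = T ^ k) (hT : T ^ 41 = 1)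
    (hgen : ∀ r : ℕ, r < 40 → ∃ a b : ℕ, (r + 1) % 41 = (3 ^ a * k ^ b) % 41)
    (hdim : Module.finrank (ZMod 3) V < 40) : T = 1 := by
  classical
  have h41f : Fact (Nat.Prime 41) := ⟨by norm_num⟩
  set m := minpoly (ZMod 3) T with hm
  have hint : IsIntegral (ZMod 3) T := Algebra.IsIntegral.isIntegral T
  have hm0 : m ≠ 0 := minpoly.ne_zero hint
  have hdeg : m.natDegree < 40 := by
    have h1 : m ∣ LinearMap.charpoly T := LinearMap.minpoly_dvd_charpoly T
    have h2 := Polynomial.natDegree_le_of_dvd h1 (LinearMap.charpoly_monic T).ne_zero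
    rw [LinearMap.charpoly_natDegree] at h2
    omega
  have hmod : ∀ a b : ℕ, a % 41 = b % 41 → T ^ a = T ^ b := by
    intro a b hab
    rw [← Nat.div_add_mod a 41, ← Nat.div_add_mod b 41, pow_add, pow_add, pow_mul, pow_mul, hT, one_pow, one_pow, hab]
  have hr : ∀ r : ℕ, r < 40 → m ∣ expand (ZMod 3) (r + 1) m := by
    intro r hr
    obtain ⟨a, b, hab⟩ := hgen r hr
    apply minpoly.dvd
    rw [expand_aeval, hmod _ _ hab]
    exact key hF hF' hk a b
  set Q : (ZMod 3)[X] := ∑ i ∈ Finset.range 41, X ^ i with hQ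
  have hXQ : Q * (X - 1) = X ^ 41 - 1 := by
    rw [hQ, geom_sum_mul]
  have hm41 : m ∣ Q * (X - 1) := by
    rw [hXQ]
    apply minpoly.dvd
    rw [map_sub, map_pow, aeval_X, map_one, hT, sub_self]
  have hcop : IsCoprime m Q := by
    rw [Polynomial.isCoprime_iff_aeval_ne_zero_of_isAlgClosed (ZMod 3) (AlgebraicClosure (ZMod 3))]
    intro c
    by_contra hcon
    push Not at hcon
    obtain ⟨h1, h2⟩ := hcon
    have hc41 : c ^ 41 = 1 := by
      have h3 : aeval c (X ^ 41 - 1 : (ZMod 3)[X]) = 0 := by
        rw [← hXQ, map_mul, h2, zero_mul]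
      rw [map_sub, map_pow, aeval_X, map_one, sub_eq_zero] at h3
      exact h3
    have hc1 : c ≠ 1 := by
      rintro rfl
      rw [hQ, map_sum] at h2
      simp only [map_pow, aeval_X, one_pow, Finset.sum_const, Finset.card_range, nsmul_eq_mul, mul_one] at h2
      have h3 : ((41 : ℕ) : AlgebraicClosure (ZMod 3)) = 0 := h2
      rw [CharP.cast_eq_zero_iff (AlgebraicClosure (ZMod 3)) 3] at h3
      norm_num at h3
    have ho : orderOf c = 41 := orderOf_eq_prime hc41 hc1
    have hroot : ∀ r : ℕ, r < 40 → aeval (c ^ (r + 1)) m = 0 := by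
      intro r hr'
      obtain ⟨w, hw⟩ := hr r hr'
      rw [← expand_aeval, hw, map_mul, h1, zero_mul]
    have hinj : Set.InjOn (fun r : ℕ => c ^ (r + 1)) (Finset.range 40 : Set ℕ) := by
      intro a ha b hb hab
      simp only [Finset.coe_range, Set.mem_Iio] at ha hb
      have hc0 : c ≠ 0 := by
        rintro rfl
        rw [zero_pow (by norm_num)] at hc41
        exact zero_ne_one hc41
      have h3 : (a + 1) ≡ (b + 1) [MOD 41] := by
        have h4 : (Units.mk0 c hc0) ^ (a + 1) = (Units.mk0 c hc0) ^ (b + 1) := Units.ext (by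
          rw [Units.val_pow_eq_pow_val, Units.val_pow_eq_pow_val]
          exact hab)
        have h5 : orderOf (Units.mk0 c hc0) = 41 := by
          rw [← orderOf_units, Units.val_mk0, ho]
        rw [← h5]
        exact pow_eq_pow_iff_modEq.1 h4
      unfold Nat.ModEq at h3
      omega
    have hsub : (Finset.range 40).image (fun r : ℕ => c ^ (r + 1)) ⊆
        (m.map (algebraMap (ZMod 3) (AlgebraicClosure (ZMod 3)))).roots.toFinset := by
      intro d hd
      rw [Finset.mem_image] at hd
      obtain ⟨r, hr', rfl⟩ := hd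
      rw [Multiset.mem_toFinset, mem_roots (by rwa [Ne, Polynomial.map_eq_zero]), IsRoot.def, eval_map_algebraMap]
      exact hroot r (Finset.mem_range.1 hr')
    have h3 := Finset.card_le_card hsub
    rw [Finset.card_image_of_injOn hinj, Finset.card_range] at h3
    have h4 := (Multiset.toFinset_card_le (m.map (algebraMap (ZMod 3) (AlgebraicClosure (ZMod 3)))).roots).trans
      (card_roots' _)
    rw [natDegree_map] at h4
    omega
  have hdvd : m ∣ X - 1 := hcop.dvd_of_dvd_mul_left hm41
  obtain ⟨w, hw⟩ := hdvd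
  have h5 : aeval T (X - 1 : (ZMod 3)[X]) = 0 := by
    rw [hw, map_mul, hm, minpoly.aeval, zero_mul]
  rwa [map_sub, aeval_X, map_one, sub_eq_zero] at h5

end lin

/-! ### in a group -/

open Subgroup

/-- **In a finite group.** -/
theorem comm_of_small {H : Type*} [Group H] [Finite H] {N : Subgroup H} [hN : N.Normal]
    (hc : ∀ a ∈ N, ∀ b ∈ N, a * b = b * a) (h3 : ∀ a ∈ N, a ^ 3 = 1) (hcard : ¬ 3 ^ 40 ∣ Nat.card N) {x f : H}
    (hx : x ^ 41 = 1) {k : ℕ} (hf : f * x * f⁻¹ = x ^ k)
    (hgen : ∀ r : ℕ, r < 40 → ∃ a b : ℕ, (r + 1) % 41 = (3 ^ a * k ^ b) % 41) {a : H} (ha : a ∈ N) :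
    x * a = a * x := by
  let _ : CommGroup N := { (inferInstance : Group N) with mul_comm := fun a b => Subtype.ext (hc a a.2 b b.2) }
  let _ : Module (ZMod 3) (Additive N) := AddCommGroup.zmodModule (n := 3) (fun v => by
    have h1 : ((Additive.toMul v : N) ^ 3 : N) = 1 := Subtype.ext (h3 _ (Additive.toMul v : N).2)
    exact congrArg Additive.ofMul h1)
  let ρ : H → Module.End (ZMod 3) (Additive N) := fun g =>
    AddMonoidHom.toZModLinearMap 3 (MonoidHom.toAdditive ((MulAut.conjNormal g : MulAut N) : N →* N))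
  have hρ : ∀ g : H, ∀ v : N, ρ g (Additive.ofMul v) = Additive.ofMul (MulAut.conjNormal g v) := fun g v => rfl
  have hmul : ∀ g h : H, ρ (g * h) = ρ g * ρ h := by
    intro g h
    apply LinearMap.ext
    intro v
    have h1 : MulAut.conjNormal (g * h) (Additive.toMul v) =
        MulAut.conjNormal g (MulAut.conjNormal h (Additive.toMul v)) := by
      rw [map_mul]
      rfl
    exact congrArg Additive.ofMul h1
  have hone : ρ 1 = 1 := by
    apply LinearMap.ext
    intro v
    have h1 : MulAut.conjNormal (1 : H) (Additive.toMul v : N) = Additive.toMul v := by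
      rw [map_one]
      rfl
    exact congrArg Additive.ofMul h1
  have hpow : ∀ (g : H) (n : ℕ), ρ (g ^ n) = ρ g ^ n := by
    intro g n
    induction n with
    | zero => rw [pow_zero, pow_zero, hone]
    | succ n ih => rw [pow_succ, pow_succ, hmul, ih]
  have hfin : Module.Finite (ZMod 3) (Additive N) := Module.Finite.of_finite
  have h1 : ρ x = 1 := by
    refine eq_one (F := ρ f) (F' := ρ f⁻¹) (k := k) ?_ ?_ ?_ ?_ hgen ?_
    · rw [← hmul, mul_inv_cancel, hone]
    · rw [← hmul, inv_mul_cancel, hone]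
    · rw [← hmul, ← hmul, hf, hpow]
    · rw [← hpow, hx, hone]
    · by_contra hlt
      apply hcard
      have h2 : Nat.card (Additive N) = Nat.card (ZMod 3) ^ Module.finrank (ZMod 3) (Additive N) :=
        Module.natCard_eq_pow_finrank
      have h4 : Nat.card N = 3 ^ Module.finrank (ZMod 3) (Additive N) := by
        rw [Nat.card_zmod] at h2
        exact h2
      rw [h4]
      exact pow_dvd_pow 3 (by omega)
  have h2 : MulAut.conjNormal x (⟨a, ha⟩ : N) = ⟨a, ha⟩ := by
    have h3 := hρ x ⟨a, ha⟩
    rw [h1] at h3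
    exact (congrArg Additive.toMul h3).symm
  have h4 : x * a * x⁻¹ = a := congrArg Subtype.val h2
  rwa [mul_inv_eq_iff_eq_mul] at h4

end Cfsg.Agent.H979.OreM.Lin
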