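import Cfsg.Agent.H438.Fpr.LemB
import Cfsg.Agent.Solvable.SZ
import Cfsg.Agent.H979.OreM.Lin

/-!
# Solvable groups containing a self-... element of prime order (helper979)

* `norm_part` : the `q`-part of `|X|` divides `|N(⟨x⟩)|` if `X` is `Nice` and `q` has large order modulo `p`
* `exists_lift` : lifting of normalizers of Sylow subgroups of prime order
* `three_part` : the case `p = 41`, `q = 3` in solvable groups with an element acting on `⟨x⟩`
-/

set_option autoImplicit false

namespace Cfsg.Agent.H979.OreM.Gen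

open Subgroup Cfsg.Agent.H995.CopEngine Cfsg.Agent.H438.Fpr.LemB Cfsg.Agent.H291.SolNorm
open scoped Pointwise

universe u

/-- the `q`-part divides the order of the normalizer -/
theorem norm_part {X : Type u} [Group X] [Finite X] {p : ℕ} (hp : p.Prime) (h2 : ¬ p ^ 2 ∣ Nat.card X) {x : X}
    (hx : orderOf x = p) (hN : Nice p X) {q k : ℕ} (hq : q.Prime) (hqp : q ≠ p)
    (hc : ∀ i, 1 ≤ i → q ^ i ∣ Nat.card X → ¬ p ∣ q ^ i - 1) (hk : q ^ k ∣ Nat.card X) :
    q ^ k ∣ Nat.card (normalizer ((zpowers x : Subgroup X) : Set X)) := by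
  have hpf := Fact.mk hp
  obtain ⟨K, hK, hpK, hPK⟩ := hN
  have hidx : ¬ p ∣ (zpowers x).index := by
    intro h1
    apply h2
    rw [← (zpowers x).card_mul_index, Nat.card_zpowers, hx, pow_two]
    exact Nat.mul_dvd_mul_left p h1
  have hpg : IsPGroup p (zpowers x) := IsPGroup.of_card (n := 1) (by rw [Nat.card_zpowers, hx, pow_one])
  let P : Sylow p X := hpg.toSylow hidx
  have hPx : (P : Subgroup X) = zpowers x := rfl
  have hT := hPK P
  set T : Subgroup X := (P : Subgroup X) ⊔ K with hTdef
  have hPT : (P : Subgroup X) ≤ T := le_sup_left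
  set N : Subgroup X := normalizer ((P : Subgroup X) : Set X) with hNdef
  have hF : N ⊔ K = ⊤ := by
    have h3 := Sylow.normalizer_sup_eq_top (P.subtype hPT)
    have h4 : ((P.subtype hPT : Sylow p T) : Subgroup T).map T.subtype = (P : Subgroup X) := by
      rw [Sylow.coe_subtype, subgroupOf_map_subtype, inf_eq_left.2 hPT]
    rw [h4] at h3
    rw [eq_top_iff, ← h3]
    refine sup_le le_sup_left ?_
    rw [hTdef]
    exact sup_le (le_trans le_normalizer le_sup_left) le_sup_right
  have e1 : K.index = K.relIndex N := by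
    rw [← relIndex_top_right, ← hF, sup_comm, relIndex_sup_left]
  have e2 : Nat.card X * Nat.card ↥(K ⊓ N) = Nat.card K * Nat.card N := by
    have h5 : Nat.card ↥(K ⊓ N) * K.relIndex N = Nat.card N := by
      have h6 := (K.subgroupOf N).card_mul_index
      rw [← Subgroup.relIndex] at h6
      rw [← h6]
      congr 1
      rw [← card_map_of_injective N.subtype_injective, subgroupOf_map_subtype]
    rw [← K.card_mul_index, e1, ← h5]
    ring
  have e3 : K ⊓ centralizer ({x} : Set X) ≤ K ⊓ N := by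
    refine inf_le_inf_left _ fun g hg => ?_
    have h3 : centralizer ((zpowers x : Subgroup X) : Set X) ≤ N := by
      rw [hNdef, hPx]
      exact centralizer_le_normalizer _
    refine h3 ?_
    rw [mem_centralizer_iff]
    rintro _ ⟨j, rfl⟩
    exact ((show Commute g x from mem_centralizer_singleton_iff.1 hg).zpow_right j).eq.symm
  have hx1 : x ^ p = 1 := by rw [← hx, pow_orderOf_eq_one]
  have hqf := Fact.mk hq
  have v1 : ∀ j, q ^ j ∣ Nat.card K → q ^ j ∣ Nat.card ↥(K ⊓ N) := fun j hj => by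
    have h7 := pow_dvd_cent hp K hpK hx1 hq hqp hj (fun i hi h => hc i hi (h.trans (card_subgroup_dvd_card K)))
    exact h7.trans (card_dvd_of_le e3)
  have c0 : ∀ H : Subgroup X, Nat.card H ≠ 0 := fun H => Nat.card_pos.ne'
  have hX0 : Nat.card X ≠ 0 := Nat.card_pos.ne'
  show q ^ k ∣ Nat.card N
  rw [hq.pow_dvd_iff_le_factorization (c0 _)]
  have h8 := congrArg (fun n => n.factorization q) e2
  simp only [Nat.factorization_mul hX0 (c0 _), Nat.factorization_mul (c0 K) (c0 N), Finsupp.add_apply] at h8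
  have h9 := (hq.pow_dvd_iff_le_factorization hX0).1 hk
  have h10 := (hq.pow_dvd_iff_le_factorization (c0 (K ⊓ N))).1 (v1 _ (Nat.ordProj_dvd (Nat.card K) q))
  omega

/-- an element normalizing `⟨x⟩` -/
theorem mem_norm {X : Type u} [Group X] [Finite X] {x g : X} (h : g * x * g⁻¹ ∈ zpowers x) :
    g ∈ normalizer ((zpowers x : Subgroup X) : Set X) := by
  have h1 : zpowers (g * x * g⁻¹) = zpowers x := by
    refine eq_of_le_of_card_ge (zpowers_le.2 h) ?_
    rw [Nat.card_zpowers, Nat.card_zpowers]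
    have := MulEquiv.orderOf_eq (MulAut.conj g) x
    rw [MulAut.conj_apply] at this
    rw [this]
  rw [mem_normalizer_iff]
  intro y
  constructor
  · rintro ⟨j, rfl⟩
    have h2 : g * x ^ j * g⁻¹ = (g * x * g⁻¹) ^ j := by rw [conj_zpow]
    show g * x ^ j * g⁻¹ ∈ zpowers x
    rw [h2]
    exact zpow_mem h j
  · intro hy
    rw [← h1] at hy
    obtain ⟨j, hj⟩ := hy
    refine ⟨j, ?_⟩
    have h3 : (g * x * g⁻¹) ^ j = g * y * g⁻¹ := hj
    rw [conj_zpow] at h3
    exact mul_left_cancel (mul_right_cancel h3)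

theorem conj_mem_zpowers {X : Type u} [Group X] {x g : X} (h : g ∈ normalizer ((zpowers x : Subgroup X) : Set X)) :
    g * x * g⁻¹ ∈ zpowers x := (mem_normalizer_iff.1 h x).1 (mem_zpowers x)

/-- all subgroups of order `q` are conjugate if `q² ∤ |X|` -/
theorem conj_of_not_sq {X : Type u} [Group X] [Finite X] {q : ℕ} (hq : q.Prime) (hq2 : ¬ q ^ 2 ∣ Nat.card X) {x y : X}
    (hx : orderOf x = q) (hy : orderOf y = q) : ∃ g : X, g * y * g⁻¹ ∈ zpowers x := by
  have hFq : Fact q.Prime := ⟨hq⟩
  have hxp : IsPGroup q (zpowers x) := IsPGroup.of_card (n := 1) (by rw [Nat.card_zpowers, hx, pow_one])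
  have hyp : IsPGroup q (zpowers y) := IsPGroup.of_card (n := 1) (by rw [Nat.card_zpowers, hy, pow_one])
  obtain ⟨Q, hQ⟩ := hxp.exists_le_sylow
  obtain ⟨R, hR⟩ := hyp.exists_le_sylow
  obtain ⟨g, hg⟩ := MulAction.exists_smul_eq X R Q
  have hQx : (Q : Subgroup X) = zpowers x := by
    symm
    refine Subgroup.eq_of_le_of_card_ge hQ ?_
    obtain ⟨k, hk⟩ := IsPGroup.iff_card.1 Q.2
    rw [hk, Nat.card_zpowers, hx]
    have h4 : k < 2 := by
      by_contra hk2
      refine hq2 ((Nat.pow_dvd_pow q (not_lt.1 hk2)).trans ?_)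
      rw [← hk]; exact card_subgroup_dvd_card _
    calc q ^ k ≤ q ^ 1 := Nat.pow_le_pow_right hq.pos (by omega)
      _ = q := pow_one q
  refine ⟨g, ?_⟩
  rw [← hQx, ← hg]
  have h1 : y ∈ (R : Subgroup X) := hR (mem_zpowers y)
  show _ ∈ (MulAut.conj g • (R : Subgroup X))
  exact Subgroup.smul_mem_pointwise_smul y (MulAut.conj g) _ h1

/-- **lifting elements of the normalizer modulo a normal subgroup** -/
theorem exists_lift {X : Type u} [Group X] [Finite X] {p : ℕ} (hp : p.Prime) (h2 : ¬ p ^ 2 ∣ Nat.card X) {x : X}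
    (hx : orderOf x = p) (N : Subgroup X) [N.Normal] {g : X ⧸ N}
    (hg : g ∈ normalizer ((zpowers (QuotientGroup.mk x : X ⧸ N) : Subgroup (X ⧸ N)) : Set (X ⧸ N))) :
    ∃ m ∈ normalizer ((zpowers x : Subgroup X) : Set X), (QuotientGroup.mk m : X ⧸ N) = g := by
  obtain ⟨g, rfl⟩ := QuotientGroup.mk'_surjective N g
  set T : Subgroup X := (zpowers (QuotientGroup.mk x : X ⧸ N)).comap (QuotientGroup.mk' N) with hT
  have hxT : x ∈ T := mem_zpowers _
  have hyT : g * x * g⁻¹ ∈ T := by
    have h1 := conj_mem_zpowers hg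
    exact h1
  have ho : orderOf (g * x * g⁻¹) = p := by
    have := MulEquiv.orderOf_eq (MulAut.conj g) x
    rw [MulAut.conj_apply] at this
    rw [this, hx]
  obtain ⟨t, ht⟩ := conj_of_not_sq (X := T) hp (fun h => h2 (h.trans (card_subgroup_dvd_card T))) (x := ⟨x, hxT⟩)
    (y := ⟨g * x * g⁻¹, hyT⟩) (by rw [Subgroup.orderOf_mk, hx]) (by rw [Subgroup.orderOf_mk, ho])
  obtain ⟨j, hj⟩ := ht
  have hj' : x ^ j = (t : X) * (g * x * g⁻¹) * (t : X)⁻¹ := congrArg Subtype.val hj
  have h3 : (t : X) * g ∈ normalizer ((zpowers x : Subgroup X) : Set X) := by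
    apply mem_norm
    refine ⟨j, ?_⟩
    show x ^ j = _
    rw [hj']
    group
  obtain ⟨i, hi⟩ := t.2
  have hi' : (QuotientGroup.mk x : X ⧸ N) ^ i = QuotientGroup.mk (t : X) := hi
  refine ⟨x ^ (-i) * ((t : X) * g), mul_mem (zpow_mem (le_normalizer (mem_zpowers x)) _) h3, ?_⟩
  show (QuotientGroup.mk x : X ⧸ N) ^ (-i) * (QuotientGroup.mk (t : X) * QuotientGroup.mk g) = QuotientGroup.mk g
  rw [← hi', ← mul_assoc, ← zpow_add, neg_add_cancel, zpow_zero, one_mul]

/-- the order of the normalizer in a quotient -/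
theorem card_norm_quot {X : Type u} [Group X] [Finite X] {p : ℕ} (hp : p.Prime) (h2 : ¬ p ^ 2 ∣ Nat.card X) {x : X}
    (hx : orderOf x = p) (N : Subgroup X) [N.Normal] :
    Nat.card (normalizer ((zpowers (QuotientGroup.mk x : X ⧸ N) : Subgroup (X ⧸ N)) : Set (X ⧸ N))) *
      Nat.card ↥(N ⊓ normalizer ((zpowers x : Subgroup X) : Set X)) =
      Nat.card (normalizer ((zpowers x : Subgroup X) : Set X)) := by
  set M := normalizer ((zpowers x : Subgroup X) : Set X) with hM
  have h1 : M.map (QuotientGroup.mk' N) =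
      normalizer ((zpowers (QuotientGroup.mk x : X ⧸ N) : Subgroup (X ⧸ N)) : Set (X ⧸ N)) := by
    apply le_antisymm
    · rintro _ ⟨m, hm, rfl⟩
      apply mem_norm
      obtain ⟨j, hj⟩ := conj_mem_zpowers hm
      exact ⟨j, congrArg (QuotientGroup.mk' N) hj⟩
    · intro g hg
      obtain ⟨m, hm, hmg⟩ := exists_lift hp h2 hx N hg
      exact ⟨m, hm, hmg⟩
  rw [← h1]
  have h3 := (N.subgroupOf M).card_mul_index
  have h4 : (N.subgroupOf M).index = Nat.card (M.map (QuotientGroup.mk' N)) := by
    have h5 := Subgroup.relIndex_comap (⊥ : Subgroup (X ⧸ N)) (QuotientGroup.mk' N) M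
    rw [MonoidHom.comap_bot, QuotientGroup.ker_mk', Subgroup.relIndex_bot_left] at h5
    exact h5
  have h6 : Nat.card (N.subgroupOf M) = Nat.card ↥(N ⊓ M) := by
    rw [← card_map_of_injective M.subtype_injective, subgroupOf_map_subtype]
  rw [h4, h6] at h3
  rw [mul_comm]
  exact h3

/-- **The 3-part of a solvable group with an element of order 41 and an element acting on it.** -/
theorem three_part {k : ℕ} (hgen : ∀ r : ℕ, r < 40 → ∃ a b : ℕ, (r + 1) % 41 = (3 ^ a * k ^ b) % 41) :
    ∀ (n : ℕ) (X : Type u) [Group X] [Finite X], Nat.card X ≤ n → Group.IsSolvable X → ¬ 41 ^ 2 ∣ Nat.card X →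
      ¬ 3 ^ 40 ∣ Nat.card X → ∀ x f : X, orderOf x = 41 → f * x * f⁻¹ = x ^ k → ∀ a, 3 ^ a ∣ Nat.card X →
      3 ^ a ∣ Nat.card (normalizer ((zpowers x : Subgroup X) : Set X)) := by
  intro n
  induction n with
  | zero =>
    intro X _ _ h
    exact absurd h (by have := Nat.card_pos (α := X); omega)
  | succ n ih =>
    intro X _ _ hn hs h41 h340 x f hx hf a ha
    have h41p : Nat.Prime 41 := by norm_num
    have hx1 : x ≠ 1 := by
      rintro rfl
      rw [orderOf_one] at hx
      norm_num at hx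
    have hnt : Nontrivial X := ⟨⟨x, 1, hx1⟩⟩
    obtain ⟨q, hq, N, hNn, hNb, hcomm, hexp⟩ := Cfsg.Agent.Solvable.SZ.exists_normal_elemAb X hs
    have hqf := Fact.mk hq
    have hNp : IsPGroup q N := fun g => ⟨1, Subtype.ext (by rw [pow_one]; exact hexp g g.2)⟩
    obtain ⟨m, hm⟩ := IsPGroup.iff_card.1 hNp
    have hm0 : m ≠ 0 := by
      rintro rfl
      rw [pow_zero] at hm
      exact hNb (Subgroup.card_eq_one.1 hm)
    have hcard : Nat.card N * Nat.card (X ⧸ N) = Nat.card X := by
      rw [← N.card_mul_index]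
      rfl
    have hN1 : 1 < Nat.card N := by
      rw [hm]
      exact Nat.one_lt_pow hm0 hq.one_lt
    by_cases hxN : x ∈ N
    · -- `⟨x⟩` is normal
      have h1 : 41 ∣ q ^ m := by
        rw [← hm, ← hx, ← Subgroup.orderOf_mk x hxN]
        exact orderOf_dvd_natCard _
      have hq41 : q = 41 := ((Nat.prime_dvd_prime_iff_eq h41p hq).1 (h41p.dvd_of_dvd_pow h1)).symm
      have hNx : N = zpowers x := by
        symm
        refine eq_of_le_of_card_ge (zpowers_le.2 hxN) ?_
        rw [Nat.card_zpowers, hx, hm, hq41]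
        have hm2 : m < 2 := by
          by_contra hcon
          apply h41
          refine (pow_dvd_pow 41 (not_lt.1 hcon)).trans ?_
          rw [← hq41, ← hm]
          exact card_subgroup_dvd_card N
        calc 41 ^ m ≤ 41 ^ 1 := Nat.pow_le_pow_right (by norm_num) (by omega)
          _ = 41 := pow_one 41
      have h2 : normalizer ((zpowers x : Subgroup X) : Set X) = ⊤ := by
        rw [← hNx]
        exact Subgroup.normalizer_eq_top_iff.2 hNn
      rw [h2, Subgroup.card_top]
      exact ha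
    · set x' : X ⧸ N := QuotientGroup.mk x with hx'
      have hxo : orderOf x' = 41 := by
        have h1 : orderOf x' ∣ 41 := hx ▸ orderOf_map_dvd (QuotientGroup.mk' N) x
        rcases (Nat.dvd_prime h41p).1 h1 with h3 | h3
        · exfalso
          apply hxN
          rw [orderOf_eq_one_iff] at h3
          exact (QuotientGroup.eq_one_iff x).1 h3
        · exact h3
      have hle : Nat.card (X ⧸ N) ≤ n := by
        have h5 : 0 < Nat.card (X ⧸ N) := Nat.card_pos
        nlinarith
      have hdq : Nat.card (X ⧸ N) ∣ Nat.card X := Dvd.intro_left _ hcard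
      have ih' := ih (X ⧸ N) hle inferInstance (fun h => h41 (h.trans hdq)) (fun h => h340 (h.trans hdq)) x'
        (QuotientGroup.mk f) hxo (congrArg (QuotientGroup.mk' N) hf)
      have hM := card_norm_quot h41p h41 hx N
      by_cases hq3 : q = 3
      · subst hq3
        -- `x` centralizes `N`
        have hcx : ∀ b ∈ N, x * b = b * x := fun b hb =>
          Lin.comm_of_small hcomm hexp (fun h => h340 (h.trans (card_subgroup_dvd_card N)))
            (by rw [← hx, pow_orderOf_eq_one]) hf hgen hb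
        have hNM : N ≤ normalizer ((zpowers x : Subgroup X) : Set X) := by
          intro b hb
          apply mem_norm
          rw [← hcx b hb, mul_inv_cancel_right]
          exact mem_zpowers x
        rw [inf_eq_left.2 hNM] at hM
        rw [← hM, hm]
        rw [← hcard, hm] at ha
        rcases le_total a m with hle | hle
        · exact (pow_dvd_pow 3 hle).trans (dvd_mul_left _ _)
        · obtain ⟨c, rfl⟩ := Nat.exists_eq_add_of_le hle
          rw [pow_add] at ha ⊢
          have h6 := Nat.dvd_of_mul_dvd_mul_left (pow_pos (by norm_num) m) ha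
          rw [mul_comm]
          exact Nat.mul_dvd_mul (ih' c h6) dvd_rfl
      · have h5 : Nat.Coprime (3 ^ a) (Nat.card N) := by
          rw [hm]
          exact Nat.Coprime.pow _ _ ((Nat.coprime_primes Nat.prime_three hq).2 (Ne.symm hq3))
        rw [← hcard] at ha
        have h6 := h5.dvd_of_dvd_mul_left ha
        rw [← hM]
        exact (ih' a h6).trans (dvd_mul_right _ _)

end Cfsg.Agent.H979.OreM.Gen
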