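import Cfsg.Agent.H979.OreM.Loc41

/-!
# Elements of order 41 of the Monster are strongly real (helper979)

* `inv_41` : `x` of order 41 is inverted by an involution
-/

set_option autoImplicit false
set_option maxRecDepth 100000

namespace Cfsg.Agent.H979.OreM

open Subgroup Cfsg
open Cfsg.Agent.BpSpor.MBigModel Cfsg.Agent.H995.CopEngine Cfsg.Agent.H241.NH

theorem chk40 : ∀ k < 41, k ^ 2 % 41 = 1 → k ≠ 1 → k = 40 := by decide +kernel

/-- **An element of order 41 is inverted by an involution.** -/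
theorem inv_41 (hK : AllKnown.{0}) (h3 : Three.{0}) {x : MG} (hx : orderOf x = 41) :
    ∃ t : MG, orderOf t = 2 ∧ t * t = 1 ∧ t * x * t⁻¹ = x⁻¹ ∧ t * x * t = x⁻¹ := by
  have hfin := finite
  obtain ⟨hc, hN⟩ := norm_41 hK h3 hx
  have h2f : Fact (Nat.Prime 2) := ⟨Nat.prime_two⟩
  obtain ⟨t', ht'⟩ := exists_prime_orderOf_dvd_card' (G := normalizer ((zpowers x : Subgroup MG) : Set MG)) 2
    (by rw [hN]; norm_num)
  obtain ⟨t, htdef⟩ : ∃ t : MG, t = t' := ⟨_, rfl⟩
  have ht : orderOf t = 2 := by rw [htdef, Subgroup.orderOf_coe, ht']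
  have htN : t ∈ normalizer ((zpowers x : Subgroup MG) : Set MG) := by rw [htdef]; exact t'.2
  have ht2 : t ^ 2 = 1 := by rw [← ht, pow_orderOf_eq_one]
  have htt : t * t = 1 := by rw [← pow_two, ht2]
  obtain ⟨k, hk41, hk⟩ := L41.exists_k hx htN
  have hk2 := L41.pow_mod_one hx hk ht2
  have hk1 : k ≠ 1 := by
    refine L41.ne_one_of hk fun h => ?_
    have h1 : orderOf t ∣ Nat.card (centralizer ({x} : Set MG)) :=
      Subgroup.orderOf_dvd_natCard _ (mem_centralizer_singleton_iff.2 h)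
    rw [ht, hc] at h1
    norm_num at h1
  have hk40 := chk40 k hk41 hk2 hk1
  subst hk40
  have h40 : x ^ 40 = x⁻¹ := by
    rw [eq_inv_iff_mul_eq_one, ← pow_succ]
    have h41 : x ^ 41 = 1 := by rw [← hx, pow_orderOf_eq_one]
    exact h41
  have hti : t⁻¹ = t := inv_eq_of_mul_eq_one_left htt
  refine ⟨t, ht, htt, by rw [hk, h40], ?_⟩
  rw [hti, h40] at hk
  exact hk

end Cfsg.Agent.H979.OreM
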