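import Mathlib
import Cfsg.Agent.H777.PGrp

/-!
# Lemmas on subgroups of prime power order (helper979)
-/

set_option autoImplicit false

namespace Cfsg.Agent.H979.OreM.PGr

open Subgroup
open scoped Pointwise

universe u

variable {G : Type u} [Group G] [Finite G] {p : ℕ} [hp : Fact p.Prime]

/-- an element of order `p` of a normal subgroup commuting with the `p`-group -/
theorem exists_central {S P : Subgroup G} (hS : IsPGroup p S) (hPS : P ≤ S) (hP : P ≠ ⊥)
    (hn : ∀ s ∈ S, ∀ a ∈ P, s * a * s⁻¹ ∈ P) : ∃ y ∈ P, orderOf y = p ∧ ∀ s ∈ S, s * y = y * s := by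
  have hn' : (P.subgroupOf S).Normal := ⟨fun a ha g => hn g g.2 a ha⟩
  have hb : P.subgroupOf S ≠ ⊥ := by
    intro h
    apply hP
    rw [eq_bot_iff]
    intro a ha
    have h1 : (⟨a, hPS ha⟩ : S) ∈ P.subgroupOf S := ha
    rw [h, mem_bot] at h1
    exact congrArg Subtype.val h1
  obtain ⟨b, hbP, hb1, hbc⟩ := Cfsg.Agent.H777.PGrp.inf_center_ne_bot hS hb hn'
  obtain ⟨k, hk⟩ := IsPGroup.iff_orderOf.1 hS b
  have hd : p ∣ orderOf b := by
    rw [hk]
    refine dvd_pow_self p fun h0 => hb1 ?_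
    rw [h0, pow_zero, orderOf_eq_one_iff] at hk
    exact hk
  have ho : orderOf (b ^ (orderOf b / p)) = p := orderOf_pow_orderOf_div (orderOf_pos b).ne' hd
  refine ⟨((b ^ (orderOf b / p) : S) : G), ?_, ?_, ?_⟩
  · rw [Subgroup.coe_pow]
    exact pow_mem (show (b : G) ∈ P from hbP) _
  · rw [Subgroup.orderOf_coe, ho]
  · intro s hs
    have h1 : Commute (⟨s, hs⟩ : S) b := hbc ⟨s, hs⟩
    exact congrArg Subtype.val (h1.pow_right (orderOf b / p)).eq

omit [Finite G] hp in
/-- elements of the normalizer -/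
theorem conj_mem {P : Subgroup G} {s a : G} (hs : s ∈ normalizer (P : Set G)) (ha : a ∈ P) : s * a * s⁻¹ ∈ P :=
  (mem_normalizer_iff.1 hs a).1 ha

/-- **a `p`-subgroup which is not a Sylow subgroup** -/
theorem grow {P : Subgroup G} (hP : IsPGroup p P) (hP1 : P ≠ ⊥) (hd : p * Nat.card P ∣ Nat.card G) :
    ∃ y ∈ P, orderOf y = p ∧ p * Nat.card P ∣ Nat.card (centralizer ({y} : Set G)) := by
  obtain ⟨n, hn⟩ := IsPGroup.iff_card.1 hP
  have hn' : p * Nat.card P = p ^ (n + 1) := by rw [hn, pow_succ, mul_comm]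
  rw [hn'] at hd ⊢
  set N := normalizer (P : Set G) with hN
  have h1 : p ^ (n + 1) ∣ Nat.card N := Sylow.prime_pow_dvd_card_normalizer hd hn
  have hPN : IsPGroup p (P.subgroupOf N) := hP.comap_of_injective N.subtype N.subtype_injective
  obtain ⟨Q, hQ⟩ := hPN.exists_le_sylow
  have hQp : IsPGroup p ((Q : Subgroup N).map N.subtype) := Q.2.map _
  obtain ⟨y, hy, hyo, hyc⟩ := exists_central (S := (Q : Subgroup N).map N.subtype) (P := P) hQp (by
      intro a ha
      exact ⟨⟨a, le_normalizer ha⟩, hQ ha, rfl⟩) hP1 (by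
      rintro _ ⟨s, -, rfl⟩ a ha
      exact conj_mem s.2 ha)
  refine ⟨y, hy, hyo, ?_⟩
  have h2 : p ^ (n + 1) ∣ Nat.card ((Q : Subgroup N).map N.subtype) := by
    rw [card_map_of_injective N.subtype_injective]
    exact Q.pow_dvd_card_of_pow_dvd_card h1
  exact h2.trans (card_dvd_of_le fun s hs => mem_centralizer_singleton_iff.2 (hyc s hs))

/-- **Frattini** -/
theorem frattini {C N : Subgroup G} (hCN : ∀ n ∈ N, ∀ c ∈ C, n * c * n⁻¹ ∈ C) (P : Sylow p C) {n : G} (hn : n ∈ N) :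
    ∃ c ∈ C, ∀ a ∈ (P : Subgroup C).map C.subtype, (c * n) * a * (c * n)⁻¹ ∈ (P : Subgroup C).map C.subtype := by
  let φ : MulAut C :=
    { toFun := fun c => ⟨n * c * n⁻¹, hCN n hn c c.2⟩
      invFun := fun c => ⟨n⁻¹ * c * n, by
        have := hCN n⁻¹ (inv_mem hn) c c.2
        rwa [inv_inv] at this⟩
      left_inv := fun c => Subtype.ext (by
        show n⁻¹ * (n * c * n⁻¹) * n = c
        group)
      right_inv := fun c => Subtype.ext (by
        show n * (n⁻¹ * c * n) * n⁻¹ = c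
        group)
      map_mul' := fun c d => Subtype.ext (by
        show n * (c * d) * n⁻¹ = n * c * n⁻¹ * (n * d * n⁻¹)
        group) }
  obtain ⟨c, hc⟩ := MulAction.exists_smul_eq C (φ • P) P
  refine ⟨c, c.2, ?_⟩
  rintro _ ⟨a, ha, rfl⟩
  have h1 : φ a ∈ ((φ • P : Sylow p C) : Subgroup C) := by
    rw [Sylow.pointwise_smul_def]
    exact ⟨a, ha, rfl⟩
  have h2 : c * φ a * c⁻¹ ∈ ((c • (φ • P) : Sylow p C) : Subgroup C) := by
    rw [Sylow.coe_subgroup_smul]
    exact Subgroup.smul_mem_pointwise_smul (φ a) (MulAut.conj c) _ h1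
  rw [hc] at h2
  refine ⟨_, h2, ?_⟩
  show (c : G) * (n * a * n⁻¹) * (c : G)⁻¹ = c * n * a * (c * n)⁻¹
  group

/-- a `q`-element normalizing a `p`-group of order `m`, `m ≡ r`: it centralizes the group if the only divisor is `m` -/
theorem comm_of_mod {q : ℕ} [hq : Fact q.Prime] {R : Subgroup G} {f : G} {a : ℕ} (hf : f ^ q ^ a = 1)
    (hR : ∀ r ∈ R, f * r * f⁻¹ ∈ R) (h : ∀ d, d ∣ Nat.card R → d % q = Nat.card R % q → d = Nat.card R) {r : G}
    (hr : r ∈ R) : f * r = r * f := by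
  have hinv : ∀ r ∈ R, f⁻¹ * r * f ∈ R := by
    intro r hr
    have hinj : Function.Injective (fun c : R => (⟨f * c * f⁻¹, hR c c.2⟩ : R)) := by
      intro c d hcd
      have h1 : f * (c : G) * f⁻¹ = f * d * f⁻¹ := congrArg Subtype.val hcd
      exact Subtype.ext (mul_left_cancel (mul_right_cancel h1))
    obtain ⟨c, hc⟩ := Finite.surjective_of_injective hinj ⟨r, hr⟩
    have h2 : f * (c : G) * f⁻¹ = r := congrArg Subtype.val hc
    have h3 : f⁻¹ * r * f = c := by
      rw [← h2]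
      group
    rw [h3]
    exact c.2
  have hfN : zpowers f ≤ normalizer (R : Set G) := by
    rw [zpowers_le, mem_normalizer_iff]
    intro c
    refine ⟨hR c, fun hc => ?_⟩
    have := hinv _ hc
    have h3 : f⁻¹ * (f * c * f⁻¹) * f = c := by group
    rwa [h3] at this
  have hpg : IsPGroup q (zpowers f) := by
    intro g
    refine ⟨a, ?_⟩
    obtain ⟨j, hj⟩ := g.2
    apply Subtype.ext
    change (g : G) ^ q ^ a = 1
    rw [← hj]
    change (f ^ j) ^ q ^ a = 1
    rw [← zpow_natCast, ← zpow_mul, mul_comm, zpow_mul, zpow_natCast, hf, one_zpow]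
  let _ : MulAction (zpowers f) R :=
    { smul := fun g c => ⟨(g : G) * c * (g : G)⁻¹, (mem_normalizer_iff.1 (hfN g.2) c).1 c.2⟩
      one_smul := fun c => Subtype.ext (by
        show (1 : G) * c * (1 : G)⁻¹ = c
        group)
      mul_smul := fun g h c => Subtype.ext (by
        show ((g : G) * h) * c * ((g : G) * h)⁻¹ = g * ((h : G) * c * (h : G)⁻¹) * (g : G)⁻¹
        group) }
  have h1 := hpg.card_modEq_card_fixedPoints R
  have h2 : Nat.card (MulAction.fixedPoints (zpowers f) R) = Nat.card ↥(R ⊓ centralizer ({f} : Set G)) := by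
    refine Nat.card_congr ⟨fun c => ⟨c.1, c.1.2, ?_⟩, fun c => ⟨⟨c, c.2.1⟩, ?_⟩, fun c => rfl, fun c => rfl⟩
    · have h3 := c.2 ⟨f, mem_zpowers f⟩
      have h4 : f * ((c : R) : G) * f⁻¹ = (c : R) := congrArg Subtype.val h3
      exact mem_centralizer_singleton_iff.2 (mul_inv_eq_iff_eq_mul.1 h4).symm
    · rintro ⟨_, j, rfl⟩
      apply Subtype.ext
      show f ^ j * (c : G) * (f ^ j)⁻¹ = c
      have h4 : Commute f (c : G) := (mem_centralizer_singleton_iff.1 c.2.2).symm
      rw [(h4.zpow_left j).eq, mul_inv_cancel_right]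
  rw [h2] at h1
  have h3 := h _ (card_dvd_of_le inf_le_left) h1.symm
  have h4 : R ⊓ centralizer ({f} : Set G) = R := eq_of_le_of_card_ge inf_le_left h3.ge
  have h5 : r ∈ R ⊓ centralizer ({f} : Set G) := by rw [h4]; exact hr
  exact (mem_centralizer_singleton_iff.1 h5.2).symm

end Cfsg.Agent.H979.OreM.PGr
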