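import Cfsg.Agent.H979.OreM.Loc71
import Cfsg.Agent.H979.OreM.Gen
import Cfsg.Agent.H979.OreM.PGr

/-!
# Local facts on the Monster for the sieves of the rows M: order 41, the cases (helper979)

* `cases` : `|C(x)| = 41 s`, `|N(⟨x⟩)| = 41 s e`, `(s, e) = (1, 40), (5, 8), (125, 20), (45, 10), (225, 2)`

`|C(y)|` is odd for `y` of order 3, 5 commuting with `x`; Sylow arithmetic; the 3- and 5-parts of `|C(y)|` divide
`|N(⟨x⟩)|` (the 3-part if some element of `C(y)` acts as an automorphism of order 5 on `⟨x⟩`).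
-/

set_option autoImplicit false
set_option maxRecDepth 100000

namespace Cfsg.Agent.H979.OreM.L41

open Subgroup Cfsg
open Cfsg.Agent.BpSpor.MBigModel Cfsg.Agent.H995.CopEngine Cfsg.Agent.H241.NH
open Cfsg.Agent.H438.Fpr.LemB Cfsg.Agent.H291.SolNorm

/-- `|M|` -/
abbrev NM : ℕ := 808017424794512875886459904961710757005754368000000000

theorem p41 : Nat.Prime 41 := by norm_num

instance fact41 : Fact (Nat.Prime 41) := ⟨p41⟩
instance fact5 : Fact (Nat.Prime 5) := ⟨by norm_num⟩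

theorem sq41 : ¬ 41 ^ 2 ∣ NM := by norm_num

theorem dvd_NM (X : Subgroup MG) : Nat.card X ∣ NM := by
  have h := card_subgroup_dvd_card X
  rwa [card_M] at h

theorem dvd_of_comm {G : Type*} [Group G] {x y : G} (h : x * y = y * x) :
    orderOf x ∣ Nat.card (centralizer ({y} : Set G)) :=
  Subgroup.orderOf_dvd_natCard _ (mem_centralizer_singleton_iff.2 h)

theorem big41 : Cfsg.Agent.H199.NSmMon.Big 41 := by
  unfold Cfsg.Agent.H199.NSmMon.Big
  simp

/-! ### centralizers of elements of order 3 and 5 -/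

theorem odd_three {x y : MG} (hx : orderOf x = 41) (hy : orderOf y = 3) (hxy : x * y = y * x) :
    ¬ 2 ∣ Nat.card (centralizer ({y} : Set MG)) := by
  have hfin := finite
  intro h2
  have h41 : 41 ∣ Nat.card (centralizer ({y} : Set MG)) := hx ▸ dvd_of_comm hxy
  have hev := Cfsg.Agent.H199.NSmMon.ev_of_even hy (by rwa [Nat.not_odd_iff_even, even_iff_two_dvd])
  rcases Cfsg.Agent.H199.NSmMon.three hy hev with h | h | h
  · rw [h] at h41
    norm_num at h41
  · rw [h] at h41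
    norm_num at h41
  · exact h 41 big41 h41

theorem odd_five {x y : MG} (hx : orderOf x = 41) (hy : orderOf y = 5) (hxy : x * y = y * x) :
    ¬ 2 ∣ Nat.card (centralizer ({y} : Set MG)) := by
  have hfin := finite
  have h41 : 41 ∣ Nat.card (centralizer ({y} : Set MG)) := hx ▸ dvd_of_comm hxy
  by_cases hev : Cfsg.Agent.H199.NSmMon.Ev y
  · exfalso
    rcases Cfsg.Agent.H199.NSmMon.five hy hev with h | h
    · rw [h] at h41
      norm_num at h41
    · exact h 41 big41 h41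
  · refine Cfsg.Agent.H438.Fpr.Mon.odd_cent ?_ h41
    intro g hg
    exact hev ⟨g, hg⟩

/-- a subgroup of odd order containing `x` -/
theorem solv {X : Subgroup MG} (hodd : ¬ 2 ∣ Nat.card X) : Group.IsSolvable X := by
  have hfin := finite
  refine S0205.result ?_
  rw [← Nat.not_even_iff_odd]
  exact fun h => hodd h.two_dvd

theorem nice {x : MG} (hx : orderOf x = 41) {X : Subgroup MG} (hxX : x ∈ X) (hodd : ¬ 2 ∣ Nat.card X) : Nice 41 X := by
  have hfin := finite
  refine Nice.of_solIdx p41 ?_ (fun h => sq41 (h.trans (dvd_NM X))) (SolIdx.of_solvable (by norm_num) (solv hodd))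
  rw [← hx, ← Subgroup.orderOf_mk x hxX]
  exact orderOf_dvd_natCard _

/-- the normalizer in a subgroup -/
theorem norm_sub {x : MG} {X : Subgroup MG} (hxX : x ∈ X) :
    Nat.card (normalizer ((zpowers (⟨x, hxX⟩ : X) : Subgroup X) : Set X)) ∣
      Nat.card (normalizer ((zpowers x : Subgroup MG) : Set MG)) := by
  have hfin := finite
  rw [← card_map_of_injective X.subtype_injective]
  refine card_dvd_of_le ?_
  rintro _ ⟨n, hn, rfl⟩
  apply Gen.mem_norm
  obtain ⟨j, hj⟩ := Gen.conj_mem_zpowers hn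
  exact ⟨j, congrArg Subtype.val hj⟩

theorem cond {q m : ℕ} (hm : ¬ q ^ (m + 1) ∣ NM)
    (h : ((List.range (m + 1)).all fun i => Nat.beq i 0 || (q ^ i - 1) % 41 != 0) = true) {n : ℕ} (hn : n ∣ NM) :
    ∀ i, 1 ≤ i → q ^ i ∣ n → ¬ 41 ∣ q ^ i - 1 := by
  intro i hi hd
  have h1 : q ^ i ∣ Nat.card MG := by
    rw [card_M]
    exact hd.trans hn
  exact Cfsg.Agent.H438.Fpr.Mon.pow_cond (p := 41) hm h i hi h1

/-- the `q`-part, `q ≠ 3` -/
theorem part {x : MG} (hx : orderOf x = 41) {X : Subgroup MG} (hxX : x ∈ X) (hodd : ¬ 2 ∣ Nat.card X) {q m k : ℕ}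
    (hq : q.Prime) (hq41 : q ≠ 41) (hm : ¬ q ^ (m + 1) ∣ NM)
    (h : ((List.range (m + 1)).all fun i => Nat.beq i 0 || (q ^ i - 1) % 41 != 0) = true) (hk : q ^ k ∣ Nat.card X) :
    q ^ k ∣ Nat.card (normalizer ((zpowers (⟨x, hxX⟩ : X) : Subgroup X) : Set X)) := by
  have hfin := finite
  exact Gen.norm_part p41 (fun h => sq41 (h.trans (dvd_NM X))) (by rw [Subgroup.orderOf_mk, hx]) (nice hx hxX hodd) hq hq41
    (cond hm h (dvd_NM X)) hk

/-- the 3-part -/
theorem three_part {x f : MG} (hx : orderOf x = 41) {k : ℕ} (hf : f * x * f⁻¹ = x ^ k)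
    (hgen : ∀ r : ℕ, r < 40 → ∃ a b : ℕ, (r + 1) % 41 = (3 ^ a * k ^ b) % 41) {X : Subgroup MG} (hxX : x ∈ X)
    (hfX : f ∈ X) (hodd : ¬ 2 ∣ Nat.card X) {a : ℕ} (ha : 3 ^ a ∣ Nat.card X) :
    3 ^ a ∣ Nat.card (normalizer ((zpowers (⟨x, hxX⟩ : X) : Subgroup X) : Set X)) := by
  have hfin := finite
  refine Gen.three_part hgen (Nat.card X) X le_rfl (solv hodd) (fun h => sq41 (h.trans (dvd_NM X))) ?_ ⟨x, hxX⟩ ⟨f, hfX⟩
    (by rw [Subgroup.orderOf_mk, hx]) (Subtype.ext hf) a ha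
  intro h
  have h1 : 3 ^ 21 ∣ NM := (pow_dvd_pow 3 (by norm_num)).trans (h.trans (dvd_NM X))
  norm_num at h1

/-! ### exponents -/

theorem chkG : ∀ k ∈ ([10, 16, 18, 37] : List ℕ), ∀ r < 40, ∃ a < 8, ∃ b < 5, (r + 1) % 41 = (3 ^ a * k ^ b) % 41 := by
  decide +kernel

theorem chkH : ∀ k < 41, k ^ 5 % 41 = 1 → k ≠ 1 → k ∈ ([10, 16, 18, 37] : List ℕ) := by decide +kernel

theorem chkI : ∀ k < 41, k ^ 25 % 41 = 1 → k ^ 5 % 41 = 1 := by decide +kernel

theorem gen_of {k : ℕ} (h5 : k ^ 5 % 41 = 1) (h1 : k % 41 ≠ 1) (r : ℕ) (hr : r < 40) :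
    ∃ a b : ℕ, (r + 1) % 41 = (3 ^ a * k ^ b) % 41 := by
  rw [Nat.pow_mod] at h5
  obtain ⟨a, -, b, -, h⟩ := chkG _ (chkH (k % 41) (Nat.mod_lt _ (by norm_num)) h5 h1) r hr
  refine ⟨a, b, ?_⟩
  rw [h, Nat.mul_mod, ← Nat.pow_mod, ← Nat.mul_mod]

theorem exists_k {x g : MG} (hx : orderOf x = 41) (hg : g ∈ normalizer ((zpowers x : Subgroup MG) : Set MG)) :
    ∃ k < 41, g * x * g⁻¹ = x ^ k := by
  have hfin := finite
  obtain ⟨j, hj⟩ := Gen.conj_mem_zpowers hg
  refine ⟨(j % 41).toNat, ?_, ?_⟩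
  · have := Int.emod_lt_of_pos j (show (0:ℤ) < 41 by norm_num)
    have := Int.emod_nonneg j (show (41:ℤ) ≠ 0 by norm_num)
    omega
  · have h3 : x ^ j = g * x * g⁻¹ := hj
    rw [← zpow_natCast, Int.toNat_of_nonneg (Int.emod_nonneg j (by norm_num)), ← h3]
    have h5 := zpow_mod_orderOf x j
    rw [hx] at h5
    exact h5.symm

theorem conj_pow_k {x g : MG} {k : ℕ} (h : g * x * g⁻¹ = x ^ k) (n : ℕ) : g ^ n * x * (g ^ n)⁻¹ = x ^ k ^ n := by
  induction n with
  | zero => rw [pow_zero, pow_zero, pow_one, one_mul, inv_one, mul_one]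
  | succ n ih =>
    rw [pow_succ']
    calc g * g ^ n * x * (g * g ^ n)⁻¹ = g * (g ^ n * x * (g ^ n)⁻¹) * g⁻¹ := by group
      _ = g * x ^ k ^ n * g⁻¹ := by rw [ih]
      _ = (g * x * g⁻¹) ^ k ^ n := by rw [conj_pow]
      _ = x ^ k ^ (n + 1) := by rw [h, ← pow_mul, pow_succ']

theorem pow_mod_one {x g : MG} (hx : orderOf x = 41) {k n : ℕ} (h : g * x * g⁻¹ = x ^ k) (hn : g ^ n = 1) :
    k ^ n % 41 = 1 := by
  have h1 := conj_pow_k h n
  rw [hn, one_mul, inv_one, mul_one] at h1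
  have h2 : x ^ 1 = x ^ k ^ n := by rw [pow_one]; exact h1
  rw [pow_eq_pow_iff_modEq, hx] at h2
  exact h2.symm

theorem ne_one_of {x g : MG} {k : ℕ} (h : g * x * g⁻¹ = x ^ k) (hne : g * x ≠ x * g) : k ≠ 1 := by
  rintro rfl
  rw [pow_one, mul_inv_eq_iff_eq_mul] at h
  exact hne h

/-! ### the order of the centralizer -/

set_option synthInstance.maxHeartbeats 400000 in
set_option synthInstance.maxSize 2000 in
theorem chkA : ∀ a < 8, ∀ b < 4, ∀ e ∈ ([2, 4, 5, 8, 10, 20, 40] : List ℕ),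
    (NM % (41 * (3 ^ a * 5 ^ b) * e) = 0 ∧ NM / (41 * (3 ^ a * 5 ^ b) * e) % 41 = 1) →
    (3 ^ a * 5 ^ b = 1 ∧ e = 40) ∨ (3 ^ a * 5 ^ b = 5 ∧ e = 8) ∨ (3 ^ a * 5 ^ b = 125 ∧ e = 20) ∨
      (3 ^ a * 5 ^ b = 45 ∧ e = 10) ∨ (3 ^ a * 5 ^ b = 225 ∧ e = 2) := by
  decide +kernel

theorem chkE : ∀ e < 41, e ∣ 40 → e ≠ 1 → e ∈ ([2, 4, 5, 8, 10, 20, 40] : List ℕ) := by decide +kernel

/-- no element of order `q` commutes with both `x` and a transposition -/
theorem pigeon {x : MG} {q a b n : ℕ} (hq : q.Prime)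
    (hN : ∀ y : MG, orderOf y = q → x * y = y * x → ¬ 2 ∣ Nat.card (centralizer ({y} : Set MG)))
    (ha : q ^ a ∣ Nat.card (centralizer ({x} : Set MG)))
    (hb : q ^ b ∣ 2 * 4154781481226426191177580544000000)
    (hn : ¬ q ^ (n + 1) ∣ NM) : a + b ≤ n := by
  have hfin := finite
  obtain ⟨d, hdo, hd⟩ := Cfsg.Agent.H438.Fpr.Mon.exists_ta
  by_contra hcon
  obtain ⟨g, y, hy, hy1, hy2⟩ := H199.NSmAbs.exists_common (G := MG) (N := centralizer ({x} : Set MG))
    (T := centralizer ({d} : Set MG)) hq (by rw [card_M]; exact hn) ha (by rw [card_cent_t hd]; exact hb)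
    (by omega)
  have h1 := mem_centralizer_singleton_iff.1 hy1
  have h2 := mem_centralizer_singleton_iff.1 hy2
  apply hN y hy h1.symm
  have h3 : orderOf (g⁻¹ * d * g) = 2 := by
    rw [← hdo]
    have := MulEquiv.orderOf_eq (MulAut.conj g⁻¹) d
    rwa [MulAut.conj_apply, inv_inv] at this
  rw [← h3]
  apply dvd_of_comm
  calc g⁻¹ * d * g * y = g⁻¹ * (d * (g * y * g⁻¹)) * g := by group
    _ = g⁻¹ * ((g * y * g⁻¹) * d) * g := by rw [h2]
    _ = y * (g⁻¹ * d * g) := by group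

theorem not_eleven {x : MG} (hx : orderOf x = 41) : ¬ 11 ∣ Nat.card (centralizer ({x} : Set MG)) := by
  have hfin := finite
  have hqf : Fact (Nat.Prime 11) := ⟨by norm_num⟩
  intro hd
  obtain ⟨y, hy⟩ := exists_prime_orderOf_dvd_card' 11 hd
  refine Cfsg.Agent.H199.AbMon.eleven_not_dvd (r := 41) (x := (y : MG)) (by simp) (by rw [Subgroup.orderOf_coe, hy]) ?_
  rw [← hx]
  exact dvd_of_comm (mem_centralizer_singleton_iff.1 y.2).symm

/-- commuting with an element of prime order -/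
theorem not_of_comm {x : MG} (hx : orderOf x = 41) {q : ℕ} (hq : q.Prime)
    (h : ∀ y : MG, orderOf y = q → ¬ 41 ∣ Nat.card (centralizer ({y} : Set MG))) :
    ¬ q ∣ Nat.card (centralizer ({x} : Set MG)) := by
  have hfin := finite
  have hqf := Fact.mk hq
  intro hd
  obtain ⟨y, hy⟩ := exists_prime_orderOf_dvd_card' q hd
  apply h (y : MG) (by rw [Subgroup.orderOf_coe, hy])
  rw [← hx]
  exact dvd_of_comm (mem_centralizer_singleton_iff.1 y.2).symm

/-- **The five cases.** -/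
theorem cases (hK : AllKnown.{0}) (h3 : Three.{0}) {x : MG} (hx : orderOf x = 41) :
    ∃ s e : ℕ, Nat.card (centralizer ({x} : Set MG)) = 41 * s ∧
      Nat.card (normalizer ((zpowers x : Subgroup MG) : Set MG)) = 41 * s * e ∧
      ((s = 1 ∧ e = 40) ∨ (s = 5 ∧ e = 8) ∨ (s = 125 ∧ e = 20) ∨ (s = 45 ∧ e = 10) ∨ (s = 225 ∧ e = 2)) := by
  have hfin := finite
  have hs := simple
  obtain ⟨e, he, he1, hN, h0, h1⟩ := Cfsg.Agent.H58.Cop.arith (s := 41) p41 hx (by rw [card_M]; norm_num)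
    (by rw [card_M]; norm_num)
  rw [hN]
  set c := Nat.card (centralizer ({x} : Set MG)) with hc
  have hc0 : c ≠ 0 := Nat.card_pos.ne'
  have hcM : c ∣ NM := dvd_NM _
  have h41 : 41 ∣ c := by
    rw [← hx]
    exact dvd_of_comm rfl
  have hprimes : ∀ q, q.Prime → q ∣ c → q ∈ ({41, 3, 5} : Finset ℕ) := by
    intro q hq hd
    have h1 := Cfsg.Agent.H58.Cop.M.mem_primes hq (hd.trans hcM)
    simp only [List.mem_cons, List.not_mem_nil, or_false] at h1
    have h2 : ∀ r ∈ ([2, 7, 11, 13, 17, 19, 23, 29, 31, 47, 59, 71] : List ℕ), q ≠ r := by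
      rintro r hr rfl
      simp only [List.mem_cons, List.not_mem_nil, or_false] at hr
      rcases hr with rfl | rfl | rfl | rfl | rfl | rfl | rfl | rfl | rfl | rfl | rfl | rfl
      · exact Cfsg.Agent.H438.Fpr.Mon.two_not_dvd (by norm_num) (by norm_num) hx hd
      · exact Cfsg.Agent.H438.Fpr.Mon.seven_not_dvd hx hd
      · exact not_eleven hx hd
      · exact Cfsg.Agent.H438.Fpr.Mon.thirteen_not_dvd hx hd
      · exact Cfsg.Agent.H438.Fpr.Mon.kill_q (by norm_num) (by norm_num) (by norm_num)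
          (Cfsg.Agent.H438.Fpr.Mon.pow_cond (m := 1) (by norm_num [Cfsg.Agent.H940.Eng.D.n_m]) (by decide +kernel))
          (by norm_num) (by norm_num) hx hd
      · exact Cfsg.Agent.H438.Fpr.Mon.kill_q (by norm_num) (by norm_num) (by norm_num)
          (Cfsg.Agent.H438.Fpr.Mon.pow_cond (m := 1) (by norm_num [Cfsg.Agent.H940.Eng.D.n_m]) (by decide +kernel))
          (by norm_num) (by norm_num) hx hd
      · exact not_of_comm hx (by norm_num) (fun y hy => not_dvd_of_small h3 (r := 23) (by simp) (by simp) (by norm_num) hy)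
          hd
      · exact not_of_comm hx (by norm_num) (fun y hy => not_dvd_of_small h3 (r := 29) (by simp) (by simp) (by norm_num) hy)
          hd
      · exact Cfsg.Agent.H438.Fpr.Mon.kill_q (by norm_num) (by norm_num) (by norm_num)
          (Cfsg.Agent.H438.Fpr.Mon.pow_cond (m := 1) (by norm_num [Cfsg.Agent.H940.Eng.D.n_m]) (by decide +kernel))
          (by norm_num) (by norm_num) hx hd
      · exact Cfsg.Agent.H438.Fpr.Mon.kill_q (by norm_num) (by norm_num) (by norm_num)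
          (Cfsg.Agent.H438.Fpr.Mon.pow_cond (m := 1) (by norm_num [Cfsg.Agent.H940.Eng.D.n_m]) (by decide +kernel))
          (by norm_num) (by norm_num) hx hd
      · exact not_of_comm hx (by norm_num) (fun y hy => by
          rw [(Cfsg.Agent.H58.Cop.M.norm_fiftynine hK hy).1]
          norm_num) hd
      · exact not_of_comm hx (by norm_num) (fun y hy => by
          rw [cent_71 hK h3 hy]
          norm_num) hd
    simp only [List.mem_cons, List.not_mem_nil, or_false, forall_eq_or_imp, forall_eq] at h2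
    simp only [Finset.mem_insert, Finset.mem_singleton]
    omega
  have e41 : c.factorization 41 = 1 := H87.MP.fact_eq p41 hc0 (by rw [pow_one]; exact h41) fun h => by
    have := h.trans hcM
    norm_num at this
  have e3 : c.factorization 3 ≤ 7 := by
    have h1 := pigeon (q := 3) (x := x) (a := c.factorization 3) (b := 13) (n := 20) Nat.prime_three
      (fun y hy hxy => odd_three hx hy hxy) (Nat.ordProj_dvd _ _) (by norm_num) (by norm_num)
    omega
  have e5 : c.factorization 5 ≤ 3 := by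
    have h1 := pigeon (q := 5) (x := x) (a := c.factorization 5) (b := 6) (n := 9) Nat.prime_five
      (fun y hy hxy => odd_five hx hy hxy) (Nat.ordProj_dvd _ _) (by norm_num) (by norm_num)
    omega
  have hcc : c = 41 * (3 ^ c.factorization 3 * 5 ^ c.factorization 5) := by
    conv_lhs => rw [H87.MP.eq_prod hc0 _ hprimes]
    rw [Finset.prod_insert (by decide), Finset.prod_insert (by decide), Finset.prod_singleton, e41, pow_one]
  rw [card_M] at h0 h1
  have he40 : e ≤ 40 := Nat.le_of_dvd (by norm_num) he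
  have key := chkA _ (show c.factorization 3 < 8 by omega) _ (show c.factorization 5 < 4 by omega) e
    (chkE e (by omega) he he1) ⟨by rw [← hcc]; exact Nat.mod_eq_zero_of_dvd h0, by rw [← hcc]; exact h1⟩
  exact ⟨_, e, hcc, by rw [← hcc], key⟩

end Cfsg.Agent.H979.OreM.L41
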